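import Cfsg.Agent.H325.Cov.E7
import Cfsg.Agent.H563.KG.CycFix
import Cfsg.Agent.OrdDiv.Table
import Cfsg.Agent.S0000

/-!
# `E₇(q)` is not the union of the conjugates of two proper subgroups, without hypotheses (helper325)
-/

set_option autoImplicit false

namespace Cfsg.Agent.H325.Cov

open Cfsg.Agent.H436 Cfsg.Agent.H563.KG Cfsg.Agent.H278.Cov

/-- **`E₇(q)`, all `q`.** -/
theorem noTwo_e7' {q : ℕ} {T : Type*} [Group T] (h : IsNamed (.e7 q) T) : NoTwo T :=
  noTwo_e7 Cfsg.Agent.OrdDiv.table cycFixSolv (fun _ _ _ _ => Cfsg.Agent.S0000.result) h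

end Cfsg.Agent.H325.Cov
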