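import Cfsg.Agent.H563.KG.RedW

/-!
# An element of large order centralises normal elementary abelian subgroups (helper325)

`cent_all`: in a linear group of degree `n` in characteristic `p` let `A` be a normal elementary abelian `t`-subgroup,
`t ≠ p`, and `y` an element of order `m > n` prime to `t`, such that every element of `A` commuting with a power of `y`
of prime order commutes with `y`. Then `y` centralises `A`.
-/

set_option autoImplicit false

namespace Cfsg.Agent.H325.Cov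

open Cfsg.Agent.H56.Exc Cfsg.Agent.H325.Loc Cfsg.Agent.H563.KG

section

variable {G : Type*} [Group G]

/-- the commutators `[y, a]`, `a ∈ A` -/
def cm (A : Subgroup G) (hA : ∀ a ∈ A, ∀ b ∈ A, a * b = b * a) (hAn : A.Normal) (y : G) : Subgroup G where
  carrier := {b | ∃ a ∈ A, b = y * a * y⁻¹ * a⁻¹}
  one_mem' := ⟨1, A.one_mem, by group⟩
  mul_mem' := by
    rintro _ _ ⟨a, ha, rfl⟩ ⟨b, hb, rfl⟩
    refine ⟨a * b, A.mul_mem ha hb, ?_⟩
    have h1 : y * b * y⁻¹ ∈ A := hAn.conj_mem b hb y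
    have h2 := hA _ h1 _ (A.inv_mem ha)
    calc y * a * y⁻¹ * a⁻¹ * (y * b * y⁻¹ * b⁻¹) = y * a * y⁻¹ * (a⁻¹ * (y * b * y⁻¹)) * b⁻¹ := by group
      _ = y * a * y⁻¹ * ((y * b * y⁻¹) * a⁻¹) * b⁻¹ := by rw [h2]
      _ = y * (a * b) * y⁻¹ * (a⁻¹ * b⁻¹) := by group
      _ = y * (a * b) * y⁻¹ * (b⁻¹ * a⁻¹) := by rw [hA _ (A.inv_mem ha) _ (A.inv_mem hb)]
      _ = y * (a * b) * y⁻¹ * (a * b)⁻¹ := by group
  inv_mem' := by
    rintro _ ⟨a, ha, rfl⟩
    refine ⟨a⁻¹, A.inv_mem ha, ?_⟩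
    have h1 : y * a⁻¹ * y⁻¹ ∈ A := hAn.conj_mem _ (A.inv_mem ha) y
    have h2 := hA _ ha _ h1
    calc (y * a * y⁻¹ * a⁻¹)⁻¹ = a * (y * a⁻¹ * y⁻¹) := by group
      _ = (y * a⁻¹ * y⁻¹) * a := h2
      _ = y * a⁻¹ * y⁻¹ * a⁻¹⁻¹ := by rw [inv_inv]

variable {A : Subgroup G} (hA : ∀ a ∈ A, ∀ b ∈ A, a * b = b * a) (hAn : A.Normal) {y : G}

theorem cm_le : cm A hA hAn y ≤ A := by
  rintro _ ⟨a, ha, rfl⟩
  exact A.mul_mem (hAn.conj_mem a ha y) (A.inv_mem ha)

theorem cm_conj {b : G} (hb : b ∈ cm A hA hAn y) : y * b * y⁻¹ ∈ cm A hA hAn y := by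
  obtain ⟨a, ha, rfl⟩ := hb
  exact ⟨y * a * y⁻¹, hAn.conj_mem a ha y, by group⟩

theorem cm_conj' {b : G} (hb : b ∈ cm A hA hAn y) : y⁻¹ * b * y ∈ cm A hA hAn y := by
  obtain ⟨a, ha, rfl⟩ := hb
  refine ⟨y⁻¹ * a * y, ?_, by group⟩
  have := hAn.conj_mem a ha y⁻¹
  rwa [inv_inv] at this

/-- coprime action -/
theorem cm_fix {t m : ℕ} (hAt : ∀ a ∈ A, a ^ t = 1) (hm : y ^ m = 1) (hc : Nat.Coprime t m) {b : G}
    (hb : b ∈ cm A hA hAn y) (hyb : y * b = b * y) : b = 1 := by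
  have hb1 := hb
  obtain ⟨a, ha, hba⟩ := hb
  have h1 : y * a * y⁻¹ = b * a := by rw [hba]; group
  have key : ∀ k : ℕ, y ^ k * a * (y ^ k)⁻¹ = b ^ k * a := by
    intro k
    induction k with
    | zero => simp
    | succ k ih =>
      have h2 : y ^ k * b = b * y ^ k := (Commute.pow_left (show Commute y b from hyb) k).eq
      calc y ^ (k + 1) * a * (y ^ (k + 1))⁻¹ = y ^ k * (y * a * y⁻¹) * (y ^ k)⁻¹ := by rw [pow_succ]; group
        _ = y ^ k * (b * a) * (y ^ k)⁻¹ := by rw [h1]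
        _ = (y ^ k * b) * a * (y ^ k)⁻¹ := by group
        _ = (b * y ^ k) * a * (y ^ k)⁻¹ := by rw [h2]
        _ = b * (y ^ k * a * (y ^ k)⁻¹) := by group
        _ = b * (b ^ k * a) := by rw [ih]
        _ = b ^ (k + 1) * a := by rw [pow_succ']; group
  have h3 := key m
  rw [hm, one_mul, inv_one, mul_one] at h3
  have h4 : b ^ m = 1 := by
    have h5 : 1 * a = b ^ m * a := by rw [one_mul]; exact h3
    exact (mul_right_cancel h5).symm
  have h5 : b ^ t = 1 := hAt b (cm_le hA hAn hb1)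
  have h6 : b ^ Nat.gcd t m = 1 := by
    rw [← orderOf_dvd_iff_pow_eq_one] at h4 h5 ⊢
    exact Nat.dvd_gcd h5 h4
  rwa [hc, pow_one] at h6

end

theorem cent_all {F : Type*} [Field F] {ι : Type*} [Fintype ι] [DecidableEq ι] {G : Type*} [Group G] [Finite G]
    {p : ℕ} [hp : Fact p.Prime] [CharP F p] {τ : G →* GL ι F} (hτ : Function.Injective τ) {A : Subgroup G}
    (hAn : A.Normal) (hA : ∀ a ∈ A, ∀ b ∈ A, a * b = b * a) {t : ℕ} (ht : t.Prime) (htp : t ≠ p)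
    (hAt : ∀ a ∈ A, a ^ t = 1) {y : G} {m : ℕ} (hy : orderOf y = m) (htm : ¬ t ∣ m)
    (hC : ∀ j : ℕ, (orderOf (y ^ j)).Prime → ∀ a ∈ A, y ^ j * a = a * y ^ j → y * a = a * y)
    (hbig : Fintype.card ι < m ∨ (m.Prime ∧ ∀ k, 0 < k → t ^ k ∣ Nat.card G → ¬ m ∣ t ^ k - 1)) :
    ∀ a ∈ A, y * a = a * y := by
  have hcop : Nat.Coprime t m := (Nat.Prime.coprime_iff_not_dvd ht).2 htm
  set A1 := cm A hA hAn y with hA1
  have hm1 : y ^ m = 1 := hy ▸ pow_orderOf_eq_one y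
  suffices h : A1 = ⊥ by
    intro a ha
    have h1 : y * a * y⁻¹ * a⁻¹ ∈ A1 := ⟨a, ha, rfl⟩
    rw [h, Subgroup.mem_bot, mul_inv_eq_one, mul_inv_eq_iff_eq_mul] at h1
    exact h1
  -- the group `K = A ⟨y⟩`
  let K : Subgroup G := A ⊔ Subgroup.zpowers y
  have hAK : A ≤ K := le_sup_left
  have hyK : y ∈ K := (le_sup_right : Subgroup.zpowers y ≤ K) (Subgroup.mem_zpowers y)
  have hform : ∀ x ∈ K, ∃ b ∈ A, ∃ j : ℕ, x = b * y ^ j := by
    intro x hx
    obtain ⟨b, hb, z, hz, rfl⟩ := (Subgroup.mem_sup_of_normal_left (s := A)).1 hx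
    obtain ⟨j, rfl⟩ := (mem_powers_iff_mem_zpowers (x := y)).2 hz
    exact ⟨b, hb, j, rfl⟩
  have hyj : ∀ (j : ℕ) (a : G), a ∈ A1 → y ^ j * a * (y ^ j)⁻¹ ∈ A1 := by
    intro j
    induction j with
    | zero => intro a ha; simpa using ha
    | succ j ih =>
      intro a ha
      have h1 := ih _ (cm_conj hA hAn ha)
      have h2 : y ^ j * (y * a * y⁻¹) * (y ^ j)⁻¹ = y ^ (j + 1) * a * (y ^ (j + 1))⁻¹ := by rw [pow_succ]; group
      rwa [h2] at h1
  let A' : Subgroup K := A1.subgroupOf K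
  have hA'n : A'.Normal := by
    refine ⟨fun a ha x => ?_⟩
    obtain ⟨b, hb, j, hx⟩ := hform x x.2
    rw [Subgroup.mem_subgroupOf] at ha ⊢
    have h1 := hyj j _ ha
    have h2 : ((x * a * x⁻¹ : K) : G) = (y ^ j * (a : G) * (y ^ j)⁻¹) := by
      have h3 := hA _ hb _ (cm_le hA hAn h1)
      calc ((x * a * x⁻¹ : K) : G) = (x : G) * a * (x : G)⁻¹ := rfl
        _ = b * (y ^ j * (a : G) * (y ^ j)⁻¹) * b⁻¹ := by rw [hx]; group
        _ = (y ^ j * (a : G) * (y ^ j)⁻¹) * b * b⁻¹ := by rw [h3]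
        _ = _ := by rw [mul_inv_cancel_right]
    rw [h2]
    exact h1
  have hA'c : ∀ a ∈ A', ∀ b ∈ A', a * b = b * a := by
    intro a ha b hb
    exact Subtype.ext (hA _ (cm_le hA hAn (Subgroup.mem_subgroupOf.1 ha)) _ (cm_le hA hAn (Subgroup.mem_subgroupOf.1 hb)))
  have hPt : IsPGroup t A' := fun a => ⟨1, by
    rw [pow_one]
    exact Subtype.ext (Subtype.ext (hAt _ (cm_le hA hAn (Subgroup.mem_subgroupOf.1 a.2))))⟩
  have := Fact.mk ht
  obtain ⟨k, hk⟩ := IsPGroup.iff_card.1 hPt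
  have hpA : ¬ p ∣ Nat.card A' := by
    intro h
    rw [hk] at h
    exact htp ((Nat.prime_dvd_prime_iff_eq hp.out ht).1 (hp.out.dvd_of_dvd_pow h)).symm
  have hcy : ∀ b ∈ A1, y * b = b * y → b = 1 := fun b hb h => cm_fix hA hAn hAt hm1 hcop hb h
  have hfree : ∀ x : K, (orderOf x).Prime → orderOf x ∣ m → ∀ a ∈ A', x * a = a * x → a = 1 := by
    intro x hxp hxm a ha hxa
    obtain ⟨b, hb, j, hx⟩ := hform x x.2
    have ha1 := Subgroup.mem_subgroupOf.1 ha
    have haA := cm_le hA hAn ha1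
    have h1 : (x : G) * a = a * x := congrArg Subtype.val hxa
    have h2 : y ^ j * (a : G) = a * y ^ j := by
      have h3 : b * (y ^ j * (a : G)) = b * (a * y ^ j) := by
        calc b * (y ^ j * (a : G)) = (b * y ^ j) * a := by group
          _ = a * (b * y ^ j) := by rw [← hx]; exact h1
          _ = (a * b) * y ^ j := by group
          _ = (b * a) * y ^ j := by rw [hA _ haA _ hb]
          _ = b * (a * y ^ j) := by group
      exact mul_left_cancel h3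
    have hne : y ^ j ≠ 1 := by
      intro h0
      rw [h0, mul_one] at hx
      have h4 : orderOf x ∣ t := by
        rw [← Subgroup.orderOf_coe, hx]
        exact orderOf_dvd_of_pow_eq_one (hAt b hb)
      have h5 : orderOf x ∣ Nat.gcd t m := Nat.dvd_gcd h4 hxm
      rw [hcop] at h5
      exact hxp.one_lt.ne' (Nat.dvd_one.1 h5)
    have ho : orderOf (y ^ j) ≠ 1 := fun h => hne (orderOf_eq_one_iff.1 h)
    obtain ⟨s, hs, hsd⟩ := Nat.exists_prime_and_dvd ho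
    have h6 : orderOf (y ^ (j * (orderOf (y ^ j) / s))) = s := by
      rw [pow_mul, orderOf_pow_of_dvd (Nat.div_pos (Nat.le_of_dvd (orderOf_pos _) hsd) hs.pos).ne'
        (Nat.div_dvd_of_dvd hsd), Nat.div_div_self hsd (orderOf_pos _).ne']
    have h7 := hC (j * (orderOf (y ^ j) / s)) (by rw [h6]; exact hs) _ haA (by
      rw [pow_mul]
      exact (Commute.pow_left (show Commute (y ^ j) (a : G) from h2) _).eq)
    exact Subtype.ext (hcy _ ha1 h7)
  suffices h : A' = ⊥ by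
    rw [eq_bot_iff]
    intro a ha
    have h1 : (⟨a, hAK (cm_le hA hAn ha)⟩ : K) ∈ A' := Subgroup.mem_subgroupOf.2 ha
    rw [h, Subgroup.mem_bot] at h1
    exact Subgroup.mem_bot.2 (congrArg Subtype.val h1)
  have hmK : m ∣ Nat.card K := by
    rw [← hy, ← Nat.card_zpowers]
    exact Subgroup.card_dvd_of_le (le_sup_right : Subgroup.zpowers y ≤ K)
  rcases hbig with hlt | ⟨hmp, hmk⟩
  · exact eq_bot_of_dvd (τ := τ.comp K.subtype) (hτ.comp K.subtype_injective) hA'c hpA hmK hfree hlt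
  · have h8 : orderOf (⟨y, hyK⟩ : K) = m := by
      rw [← Subgroup.orderOf_coe]; exact hy
    have h9 := dvd_card_sub_one (A := A') (x := (⟨y, hyK⟩ : K)) hmp h8
      (hfree _ (by rw [h8]; exact hmp) (by rw [h8]))
    rcases Nat.eq_zero_or_pos k with h0 | h0
    · rw [h0, pow_zero, Subgroup.card_eq_one] at hk
      exact hk
    · exfalso
      rw [hk] at h9
      exact hmk k h0 (hk ▸ (Subgroup.card_subgroup_dvd_card A').trans (Subgroup.card_subgroup_dvd_card K)) h9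

end Cfsg.Agent.H325.Cov
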