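import Cfsg.Agent.H563.KG.KE7

/-!
# The simple normal subgroup, with an abstract elimination (helper325)

Variants of `H563.KG.exists_name` and `H563.KG.core`, in which the cross-characteristic elimination, the sporadic
elimination and the reducedness are hypotheses.
-/

set_option autoImplicit false

namespace Cfsg.Agent.H325.Cov

open Cfsg Cfsg.Agent.OrdDiv Cfsg.Agent.H436 Cfsg.Agent.H902 Cfsg.Agent.H902.Names Cfsg.Agent.H915.GN
  Cfsg.Agent.H290.ElReg Cfsg.Agent.H264.FKS Cfsg.Agent.H56.Exc Cfsg.Agent.H325.Loc Cfsg.Agent.H563.KG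

variable {n : ℕ} {Y : Art.Sh} {fam : List ℕ} {p f : ℕ} {M E : ℕ → ℕ}

/-- the elimination of the groups not of Lie type in characteristic `p` -/
structure ElimX (n : ℕ) (Y : Art.Sh) (fam : List ℕ) (p f : ℕ) : Prop where
  hn : n ≤ 248
  cross : ∀ {X : Art.Sh} {l a N : ℕ}, Art.Real X l a N → lb X (l ^ a) ≤ n → p ≠ l →
    (∀ e ∈ fam, ncl e (p ^ f) ∣ N) → N ∣ OL Y (p ^ f) → False
  spor : ∀ {x : Grp × ℕ}, x ∈ OrdDiv.spor → (∀ e ∈ fam, ncl e (p ^ f) ∣ x.2) → x.2 ∣ OL Y (p ^ f) → False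

theorem ElimX.of_tbl {cls : List ℕ} {e₀ : ℕ} (ht : Tbl n Y cls e₀) (hsub : ∀ c ∈ cls, c ∈ fam) (hp : p.Prime)
    (hf : 1 ≤ f) : ElimX n Y fam p f where
  hn := ht.hn
  cross hR hlb hpl hcls hd := no_cross ht.hn ht.hb ht.hs ht.he₀ ht.hmem ht.hle hR hlb hp hf hpl
    (fun e he => hcls e (hsub e he)) hd
  spor hx hcls hd := no_spor ht.hbS ht.hsS ht.he₀ ht.hmem ht.hle hx hp hf (fun e he => hcls e (hsub e he)) hd

/-- **The name.** -/
theorem exists_nameX (tb : OrderTable.{0}) (hE : ElimX n Y fam p f)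
    (hp : p.Prime) (hf : 1 ≤ f) {F : Type} [Field F] [CharP F p] {S : Type} [Group S] [Finite S] [IsSimpleGroup S]
    (hna : ¬ IsMulCommutative S) (hK : IsKnownSimple' S) (hrep : Fth n F S)
    (hcls : ∀ e ∈ fam, ncl e (p ^ f) ∣ Nat.card S) (hd : Nat.card S ∣ OL Y (p ^ f))
    {e e' : ℕ} (he : e ∈ fam) (he' : e' ∈ fam) (hcl : Cls e) (hcl' : Cls e') (he7 : 7 ≤ e) (he7' : 7 ≤ e')
    (hd4 : ncl e (p ^ f) + 4 ≤ ncl e' (p ^ f) ∨ ncl e' (p ^ f) + 4 ≤ ncl e (p ^ f))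
    (hcyc : ∀ r, Prim (p ^ f) e r ∨ Prim (p ^ f) e' r → ∀ x : S, orderOf x = r → IsCyclic ↥(Subgroup.centralizer {x})) :
    ∃ g, IsNamed g S ∧ HasChar p g := by
  have hna' : ¬ ∀ a b : S, a * b = b * a := fun h => hna ⟨⟨h⟩⟩
  have hq : 2 ≤ p ^ f := hp.two_le.trans (Nat.le_self_pow (by omega) p)
  obtain ⟨g, hgS⟩ := exists_named tb hK hna'
  rcases Cfsg.Agent.H192.Singer.cases_name hgS.cond with ⟨m, rfl⟩ | hsp | ⟨l, hl, hch⟩
  · exfalso
    obtain ⟨Φ⟩ : Nonempty (S ≃* alternatingGroup (Fin m)) := hgS.real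
    have hm : 5 ≤ m := hgS.cond
    have hnil : ∀ r, Prim (p ^ f) e r ∨ Prim (p ^ f) e' r → ∀ x : S, orderOf x = r →
        Group.IsNilpotent (Subgroup.centralizer ({x} : Set S)) := by
      intro r hr x hx
      have := hcyc r hr x hx
      let _ := IsCyclic.commGroup (α := ↥(Subgroup.centralizer ({x} : Set S)))
      infer_instance
    have h1 := window hq hcl he7 (by omega) Φ (hcls e he) fun r hr => hnil r (Or.inl hr)
    have h2 := window hq hcl' he7' (by omega) Φ (hcls e' he') fun r hr => hnil r (Or.inr hr)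
    omega
  · exfalso
    have h1 := Cfsg.Agent.H192.Singer.spor_mem hsp
    have h2 : Nat.card S = ordN g := hgS.ord
    exact hE.spor h1 (fun e he => by rw [← h2]; exact hcls e he) (by rw [← h2]; exact hd)
  · by_cases hpl : p = l
    · subst hpl
      exact ⟨g, hgS, hch⟩
    · exfalso
      obtain ⟨X, f₁, h1, h2, -⟩ := exists_lie hl hgS hch
      have hlF : (l : F) ≠ 0 := by
        intro h
        exact hpl ((Nat.prime_dvd_prime_iff_eq hp hl).1 ((CharP.cast_eq_zero_iff F p l).1 h))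
      have h3 := lb_le hna' hE.hn hrep h1 hgS.real h2 hlF
      exact hE.cross h2 h3 hpl hcls hd

/-- **The simple normal subgroup.** -/
theorem coreX (tb : OrderTable.{0}) (hcyc : CycFixSolv.{0})
    (hcfsg : ∀ (S : Type) [Group S] [Finite S] [IsSimpleGroup S], IsKnownSimple' S)
    (hX : ElimX n Y fam p f) {e e' : ℕ} (hee : e ∈ fam) (hee' : e' ∈ fam)
    (hd4 : ncl e (p ^ f) + 4 ≤ ncl e' (p ^ f) ∨ ncl e' (p ^ f) + 4 ≤ ncl e (p ^ f))
    (hcl : ∀ c ∈ fam, Cls c) (h7 : ∀ c ∈ fam, 7 ≤ c)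
    (hp : p.Prime) (hf : 1 ≤ f) {F : Type} [Field F] [CharP F p]
    {T : Type} [Group T] [Finite T] (hrep : Fth n F T) (hdT : Nat.card T ∣ OL Y (p ^ f))
    (hbig : ∀ c ∈ fam, ∀ r, Prim (p ^ f) c r → Big T r (M c) (E c))
    (hnT : ∀ c ∈ fam, ncl c (p ^ f) ∣ Nat.card T)
    {c₀ r₀ : ℕ} (hc₀ : c₀ ∈ fam) (hr₀ : Prim (p ^ f) c₀ r₀)
    {B : Subgroup T} (hsep : ∀ c ∈ fam, ¬ Nat.card B ∣ E c * M c) (hoff : Off (p ^ f) fam B)
    (hred : Red ↥B (Pr (Fm (p ^ f) fam M E))) :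
    ∃ (S : Subgroup B) (_ : S.Normal) (_ : IsSimpleGroup S), ¬ IsMulCommutative S ∧
      (∀ c ∈ fam, ncl c (p ^ f) ∣ Nat.card S) ∧ (∀ c ∈ fam, S.index ∣ E c * M c) ∧
      (∀ c ∈ fam, ∀ r, Prim (p ^ f) c r → Big S r (M c) (E c) ∧ ¬ r ∣ S.index ∧ r ∣ Nat.card S) ∧
      ∃ g, IsNamed g S ∧ HasChar p g := by
  have := Fact.mk hp
  have hq2 : 2 ≤ p ^ f := hp.two_le.trans (Nat.le_self_pow (by omega) p)
  have hq1 : 1 ≤ p ^ f := by omega
  have hrf : RFam ↥B (Fm (p ^ f) fam M E) :=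
    { big := by
        rintro r m e ⟨c, hc, h, rfl, rfl⟩
        exact (hbig c hc r h).subgroup B
      dvd := by
        rintro r m e ⟨c, hc, h, rfl, rfl⟩
        exact (dvd_ncl (hcl c hc) hq1 h).trans (hoff.ncl_dvd hc (hcl c hc) hq1 (hnT c hc))
      sep := by
        rintro r m e ⟨c, hc, h, rfl, rfl⟩
        exact hsep c hc }
  obtain ⟨S, hSn, hSs, hSna, hS⟩ :=
    hrf.exists_full hcyc hred (r₁ := r₀) (m₁ := M c₀) (e₁ := E c₀) ⟨c₀, hc₀, hr₀, rfl, rfl⟩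
  have hall : ∀ c ∈ fam, ∀ r, Prim (p ^ f) c r →
      Big S r (M c) (E c) ∧ r ∣ Nat.card S ∧ ¬ r ∣ S.index ∧ S.index ∣ E c * M c :=
    fun c hc r h => hS r (M c) (E c) ⟨c, hc, h, rfl, rfl⟩
  have hnS : ∀ c ∈ fam, ncl c (p ^ f) ∣ Nat.card S := by
    intro c hc
    have h1 := hoff.ncl_dvd hc (hcl c hc) hq1 (hnT c hc)
    rw [← S.index_mul_card] at h1
    exact (coprime_of_prim (hcl c hc) hq1 fun r h => (hall c hc r h).2.2.1).dvd_of_dvd_mul_left h1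
  have hSs' : IsSimpleGroup S := hSs
  refine ⟨S, hSn, hSs, hSna, hnS, fun c hc => ?_, fun c hc r h => ⟨(hall c hc r h).1, (hall c hc r h).2.2.1,
    (hall c hc r h).2.1⟩, ?_⟩
  · obtain ⟨r, hr⟩ := exists_prim hq2 (show 3 ≤ c by have := h7 c hc; omega) (by have := h7 c hc; omega)
    exact (hall c hc r hr).2.2.2
  · have hdS : Nat.card S ∣ OL Y (p ^ f) :=
      ((Subgroup.card_subgroup_dvd_card S).trans (Subgroup.card_subgroup_dvd_card B)).trans hdT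
    refine exists_nameX tb hX hp hf hSna (hcfsg S)
      ((hrep.sub B.subtype B.subtype_injective).sub S.subtype S.subtype_injective) hnS hdS
      hee hee' (hcl e hee) (hcl e' hee') (h7 e hee) (h7 e' hee') hd4 ?_
    · rintro r (h | h) x hx
      · exact (hall e hee r h).1.cyc x hx
      · exact (hall e' hee' r h).1.cyc x hx

/-- `Red` from `Good`, as in `H563.KG.core` -/
theorem red_good (hcyc : CycFixSolv.{0}) (hcl : ∀ c ∈ fam, Cls c)
    (hp : p.Prime) {F : Type} [Field F] [CharP F p]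
    {T : Type} [Group T] [Finite T] (hrep : Fth n F T)
    (hbig : ∀ c ∈ fam, ∀ r, Prim (p ^ f) c r → Big T r (M c) (E c))
    (hnT : ∀ c ∈ fam, ncl c (p ^ f) ∣ Nat.card T)
    {c₀ r₀ : ℕ} (hc₀ : c₀ ∈ fam) (hr₀ : Prim (p ^ f) c₀ r₀) (hpiso : PIso p r₀ T)
    {B : Subgroup T} (hoff : Off (p ^ f) fam B)
    (hgood : ∀ t : ℕ, t.Prime → t ≠ p → (∀ c ∈ fam, ¬ Prim (p ^ f) c t) → t ∣ Nat.card B → Good B n t) :
    Red ↥B (Pr (Fm (p ^ f) fam M E)) := by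
  have := Fact.mk hp
  have hq1 : 1 ≤ p ^ f := Nat.one_le_pow _ _ hp.pos
  obtain ⟨τ, hτ⟩ := hrep.sub B.subtype B.subtype_injective
  have hr₀B : r₀ ∣ Nat.card B :=
    (dvd_ncl (hcl c₀ hc₀) hq1 hr₀).trans (hoff.ncl_dvd hc₀ (hcl c₀ hc₀) hq1 (hnT c₀ hc₀))
  refine red_of hcyc hτ (fun A hA hAp => pcore_of_piso (hpiso.sub B) hr₀B A hA hAp)
    (pr_fm.2 ⟨c₀, hc₀, hr₀⟩) hr₀.prime hr₀B
    (fun x hx => ((hbig c₀ hc₀ r₀ hr₀).subgroup B).cyc x hx) fun t ht htp htn htB => ?_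
  rw [Fintype.card_fin]
  exact hgood t ht htp (fun c hc h => htn (pr_fm.2 ⟨c, hc, h⟩)) htB

end Cfsg.Agent.H325.Cov
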