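import Cfsg.Agent.H325.Cov.KE7e
import Cfsg.Agent.H278.Cov.Defs

/-!
# `E₇(q)` is not the union of the conjugates of two proper subgroups (helper325)

Witnesses: generators of the tori of classes 7, 9, 14, 18 and an element of order `s`, a primitive prime divisor of
`p^(5f) - 1`.
-/

set_option autoImplicit false

namespace Cfsg.Agent.H325.Cov

open Cfsg Cfsg.Agent.OrdDiv Cfsg.Agent.H436 Cfsg.Agent.H902 Cfsg.Agent.H290.ElReg Cfsg.Agent.H290.ElTab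
  Cfsg.Agent.H56.Exc Cfsg.Agent.H325.Loc Cfsg.Agent.H915.GN Cfsg.Agent.H264.FKS Cfsg.Agent.H325.Same Cfsg.Agent.H325.IsoExc
  Cfsg.Agent.H325.IsoFree Cfsg.Agent.H563.KG Cfsg.Agent.H278.Cov

/-- the index of a subgroup whose order is divisible by `m / d` -/
theorem off_gen {G : Type*} [Group G] [Finite G] {H : Subgroup G} {m D d s v : ℕ} {K : ℤ} (hs : s.Prime)
    (hG : (D : ℤ) * Nat.card G = m * K) (hD : D ≠ 0) (hK : (K : ZMod s) = (v : ℕ)) (hv : ¬ s ∣ v) (hd : ¬ s ∣ d)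
    (hm : m ∣ d * Nat.card H) : ¬ s ∣ H.index := by
  intro hi
  obtain ⟨a, ha⟩ := hm
  have hG0 : (Nat.card G : ℤ) ≠ 0 := by exact_mod_cast Nat.card_pos.ne'
  have hm0 : (m : ℤ) ≠ 0 := by
    intro h
    rw [h, zero_mul] at hG
    exact (mul_ne_zero (by exact_mod_cast hD) hG0) hG
  have h1 : (D : ℤ) * H.index * a = d * K := by
    apply mul_left_cancel₀ hm0
    have h2 : (Nat.card G : ℤ) = H.index * Nat.card H := by exact_mod_cast (H.index_mul_card).symm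
    have h3 : ((d * Nat.card H : ℕ) : ℤ) = m * a := by exact_mod_cast ha
    push_cast at h3
    calc (m : ℤ) * (D * H.index * a) = D * H.index * (m * a) := by ring
      _ = D * H.index * (d * Nat.card H) := by rw [h3]
      _ = d * (D * (H.index * Nat.card H)) := by ring
      _ = d * (m * K) := by rw [← h2, hG]
      _ = m * (d * K) := by ring
  have h4 : (s : ℤ) ∣ d * K := h1 ▸ ((Int.natCast_dvd_natCast.2 hi).mul_left _).mul_right _
  rcases (Nat.prime_iff_prime_int.1 hs).dvd_or_dvd h4 with h5 | h5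
  · exact hd (Int.natCast_dvd_natCast.1 h5)
  · rw [← ZMod.intCast_zmod_eq_zero_iff_dvd, hK, ZMod.natCast_eq_zero_iff] at h5
    exact hv h5

theorem orderOf_conj' {G : Type*} [Group G] (g x : G) : orderOf (g * x * g⁻¹) = orderOf x :=
  orderOf_injective (MulAut.conj g).toMonoidHom (MulAut.conj g).injective x

theorem pick7 {a7 a9 a14 a18 az b7 b9 b14 b18 bz : Prop}
    (hA : (a9 ∨ a14) ∧ (a18 ∨ a7) ∧ (a14 ∨ a18) ∧ (a9 ∨ a18 ∨ az) ∧ (a7 ∨ a14 ∨ az))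
    (hB : (b9 ∨ b14) ∧ (b18 ∨ b7) ∧ (b14 ∨ b18) ∧ (b9 ∨ b18 ∨ bz) ∧ (b7 ∨ b14 ∨ bz))
    (c7 : a7 → ¬ b7) (c9 : a9 → ¬ b9) (c18 : a18 → ¬ b18) (cz : az → ¬ bz) (h : ¬ a14) : False := by
  have h9 : a9 := hA.1.resolve_right h
  have h18 : a18 := hA.2.2.1.resolve_left h
  have k9 := c9 h9
  have k18 := c18 h18
  have k7 : b7 := hB.2.1.resolve_left k18
  have kz : bz := (hB.2.2.2.1.resolve_left k9).resolve_left k18
  rcases hA.2.2.2.2 with h1 | h1 | h1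
  · exact c7 h1 k7
  · exact h h1
  · exact cz h1 kz

/-- a generator of the torus, up to the factor `d` -/
theorem exists_gen {T : Type*} [Group T] {r m d : ℕ} (h : Cfsg.Agent.H129.CycCard.CycCard T r m d) :
    ∃ x : T, m ∣ d * orderOf x := by
  obtain ⟨C, hC, -, h2, -, -⟩ := h
  obtain ⟨x, hx⟩ := hC.exists_generator
  refine ⟨(x : T), ?_⟩
  rwa [Subgroup.orderOf_coe, orderOf_eq_card_of_forall_mem_zpowers hx]

section

variable {F : Type} [Field F] [Fintype F] {q : ℕ}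

theorem gen7 {c : ℕ} (hc : c = 7 ∨ c = 9 ∨ c = 14 ∨ c = 18) (hq : Fintype.card F = q) :
    ∃ x : ↥(Lie.chevE7.group F), M7 q c ∣ Nat.gcd 2 (q - 1) * orderOf x := by
  have hq1 : 1 ≤ q := by rw [← hq]; exact Fintype.card_pos
  have hq2 : 2 ≤ q := by rw [← hq]; exact Fintype.one_lt_card
  obtain ⟨r, hr⟩ := exists_prim hq2 (show 3 ≤ c by omega) (by omega)
  have hlt : c < r := lt_of_prim hq2 (by omega) hr
  rcases hc with rfl | rfl | rfl | rfl
  · exact exists_gen (Cfsg.Agent.H129.CycCard.card_E7_7 hq (m := (q - 1) * Ph 7 q)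
      (by rw [Nat.cast_mul, Nat.cast_sub hq1, cast_Ph7]; push_cast; ring) hr.prime (prim_dvd_7 hr) (by omega))
  · exact exists_gen (Cfsg.Agent.H129.CycCard.card_E7_9 hq (m := (q - 1) * Ph 9 q)
      (by rw [Nat.cast_mul, Nat.cast_sub hq1, cast_Ph9]; push_cast; ring) hr.prime (prim_dvd_9 hr) (by omega))
  · exact exists_gen (Cfsg.Agent.H129.CycCard.card_E7_14 hq (m := (q + 1) * Ph 14 q)
      (by rw [Nat.cast_mul, cast_Ph14 _ hq1]; push_cast; ring) hr.prime (prim_dvd_14 hr) (by omega))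
  · exact exists_gen (Cfsg.Agent.H129.CycCard.card_E7_18 hq (m := (q + 1) * Ph 18 q)
      (by rw [Nat.cast_mul, cast_Ph18 _ hq1]; push_cast; ring) hr.prime (prim_dvd_18 hr) (by omega))

theorem kap7 {c : ℕ} (hc : c = 7 ∨ c = 9 ∨ c = 14 ∨ c = 18) (hq : Fintype.card F = q) :
    ∃ K : ℤ, ((Nat.gcd 2 (q - 1) : ℕ) : ℤ) * Nat.card ↥(Lie.chevE7.group F) = (M7 q c : ℕ) * K ∧
      ∀ s, Prim q c s → (K : ZMod s) = (E7 c : ℕ) := by
  have hq1 : 1 ≤ q := by rw [← hq]; exact Fintype.card_pos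
  rcases hc with rfl | rfl | rfl | rfl
  · refine ⟨(q : ℤ) ^ 63 * ((q : ℤ) ^ 2 - 1) * ((q : ℤ) ^ 6 - 1) * ((q : ℤ) ^ 8 - 1) * ((q : ℤ) ^ 10 - 1) *
      ((q : ℤ) ^ 12 - 1) * ((q : ℤ) ^ 7 + 1) * ((q : ℤ) ^ 18 - 1), ?_, fun s hs => ?_⟩
    · have hm : (((q - 1) * Ph 7 q : ℕ) : ℤ) = (q : ℤ) ^ 7 - 1 := by
        rw [Nat.cast_mul, Nat.cast_sub hq1, cast_Ph7]; push_cast; ring
      show _ = (((q - 1) * Ph 7 q : ℕ) : ℤ) * _
      rw [ord_E7 hq, hm]; ring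
    · push_cast
      exact Kap.kap_E7_7 _ (prim_phi_7 hs)
  · refine ⟨(q : ℤ) ^ 63 * ((q : ℤ) ^ 2 - 1) * ((q : ℤ) ^ 6 - 1) * ((q : ℤ) ^ 8 - 1) * ((q : ℤ) ^ 10 - 1) *
      ((q : ℤ) ^ 12 - 1) * ((q : ℤ) ^ 14 - 1) * ((q : ℤ) ^ 2 + (q : ℤ) + 1) * ((q : ℤ) ^ 9 + 1), ?_, fun s hs => ?_⟩
    · have hm : (((q - 1) * Ph 9 q : ℕ) : ℤ) = (1 + (q : ℤ) ^ 3 + (q : ℤ) ^ 6) * ((q : ℤ) - 1) := by
        rw [Nat.cast_mul, Nat.cast_sub hq1, cast_Ph9]; push_cast; ring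
      show _ = (((q - 1) * Ph 9 q : ℕ) : ℤ) * _
      rw [ord_E7 hq, hm]; ring
    · push_cast
      exact Kap.kap_E7_9 _ (prim_phi_9 hs)
  · refine ⟨(q : ℤ) ^ 63 * ((q : ℤ) ^ 2 - 1) * ((q : ℤ) ^ 6 - 1) * ((q : ℤ) ^ 8 - 1) * ((q : ℤ) ^ 10 - 1) *
      ((q : ℤ) ^ 12 - 1) * ((q : ℤ) ^ 7 - 1) * ((q : ℤ) ^ 18 - 1), ?_, fun s hs => ?_⟩
    · have hm : (((q + 1) * Ph 14 q : ℕ) : ℤ) = (q : ℤ) ^ 7 + 1 := by
        rw [Nat.cast_mul, cast_Ph14 _ hq1]; push_cast; ring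
      show _ = (((q + 1) * Ph 14 q : ℕ) : ℤ) * _
      rw [ord_E7 hq, hm]; ring
    · push_cast
      exact Kap.kap_E7_14 _ (prim_phi_14 hs)
  · refine ⟨(q : ℤ) ^ 63 * ((q : ℤ) ^ 2 - 1) * ((q : ℤ) ^ 6 - 1) * ((q : ℤ) ^ 8 - 1) * ((q : ℤ) ^ 10 - 1) *
      ((q : ℤ) ^ 12 - 1) * ((q : ℤ) ^ 14 - 1) * ((q : ℤ) ^ 2 - (q : ℤ) + 1) * ((q : ℤ) ^ 9 - 1), ?_, fun s hs => ?_⟩
    · have hm : (((q + 1) * Ph 18 q : ℕ) : ℤ) = (1 - (q : ℤ) ^ 3 + (q : ℤ) ^ 6) * ((q : ℤ) + 1) := by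
        rw [Nat.cast_mul, cast_Ph18 _ hq1]; push_cast; ring
      show _ = (((q + 1) * Ph 18 q : ℕ) : ℤ) * _
      rw [ord_E7 hq, hm]; ring
    · push_cast
      exact Kap.kap_E7_18 _ (prim_phi_18 hs)

/-- the index of a subgroup containing a conjugate of the generator -/
theorem off7 {c : ℕ} (hc : c = 7 ∨ c = 9 ∨ c = 14 ∨ c = 18) (hq : Fintype.card F = q)
    {x : ↥(Lie.chevE7.group F)} (hx : M7 q c ∣ Nat.gcd 2 (q - 1) * orderOf x) {B : Subgroup ↥(Lie.chevE7.group F)}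
    {g : ↥(Lie.chevE7.group F)} (hg : g * x * g⁻¹ ∈ B) : ∀ s, Prim q c s → ¬ s ∣ B.index := by
  intro s hs
  have hfin : Finite ↥(Lie.chevE7.group F) := inferInstance
  have hq2 : 2 ≤ q := by rw [← hq]; exact Fintype.one_lt_card
  have hlt : c < s := lt_of_prim hq2 (by omega) hs
  have hsp := hs.prime
  obtain ⟨K, h1, h2⟩ := kap7 (F := F) hc hq
  refine off_gen hsp h1 (Nat.gcd_ne_zero_left (by norm_num)) (h2 s hs) (fun h => ?_)
    (d := Nat.gcd 2 (q - 1)) (fun h => ?_) (hx.trans (mul_dvd_mul_left _ ?_))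
  · have h3 : s ≤ 7 := le_seven hsp (n := E7 c) (by unfold E7; split <;> omega) h
    omega
  · have := Nat.le_of_dvd (by norm_num) (h.trans (Nat.gcd_dvd_left _ _))
    omega
  · rw [← orderOf_conj' g x, ← Subgroup.orderOf_mk _ hg]
    exact orderOf_dvd_natCard _

theorem ncl_dvd_order {c : ℕ} (hc : c = 7 ∨ c = 9 ∨ c = 14 ∨ c = 18) (hq2 : 2 ≤ q) {n : ℕ}
    (hx : M7 q c ∣ Nat.gcd 2 (q - 1) * n) : ncl c q ∣ n := by
  have hq1 : 1 ≤ q := by omega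
  have hcl : Cls c := by unfold Cls; omega
  have h1 : ncl c q ∣ M7 q c := by
    refine (ncl_dvd_Ph c q).trans ?_
    rcases hc with rfl | rfl | rfl | rfl <;> exact Dvd.intro_left _ rfl
  refine Nat.Coprime.dvd_of_dvd_mul_left ?_ (h1.trans hx)
  refine Nat.Coprime.coprime_dvd_right (Nat.gcd_dvd_left _ _) ?_
  refine ((Nat.Prime.coprime_iff_not_dvd Nat.prime_two).2 fun h => ?_).symm
  have := lt_of_prim hq2 (by omega) (prim_of_dvd hcl hq1 Nat.prime_two h)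
  omega

/-- **`E₇(q)` is not the union of the conjugates of two proper subgroups.** -/
theorem noTwo_chevE7 (tb : OrderTable.{0}) (hcyc : CycFixSolv.{0}) (hcf : CF) : NoTwo ↥(Lie.chevE7.group F) := by
  have hfin : Finite ↥(Lie.chevE7.group F) := inferInstance
  obtain ⟨p, f, _, hp, hf, hq⟩ := exists_pf F
  have hq2 : 2 ≤ p ^ f := hp.two_le.trans (Nat.le_self_pow (by omega) p)
  have hq1 : 1 ≤ p ^ f := by omega
  obtain ⟨s, hs⟩ := exists_prim hp.two_le (show 3 ≤ f * 5 by omega) (by omega)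
  obtain ⟨x7, h7⟩ := gen7 (F := F) (c := 7) (by omega) hq
  obtain ⟨x9, h9⟩ := gen7 (F := F) (c := 9) (by omega) hq
  obtain ⟨x14, h14⟩ := gen7 (F := F) (c := 14) (by omega) hq
  obtain ⟨x18, h18⟩ := gen7 (F := F) (c := 18) (by omega) hq
  have hsG : s ∣ Nat.card ↥(Lie.chevE7.group F) := by
    have h1 : s ∣ (p ^ f) ^ 10 - 1 := by
      rw [← pow_mul]
      exact hs.dvd ⟨2, by ring⟩
    have h2 : s ∣ num (.e7 (p ^ f)) := by
      refine h1.trans ?_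
      show _ ∣ (p ^ f) ^ 63 * (((p ^ f) ^ 2 - 1) * ((p ^ f) ^ 6 - 1) * ((p ^ f) ^ 8 - 1) * ((p ^ f) ^ 10 - 1) *
        ((p ^ f) ^ 12 - 1) * ((p ^ f) ^ 14 - 1) * ((p ^ f) ^ 18 - 1))
      refine Dvd.dvd.mul_left ?_ _
      refine Dvd.dvd.mul_right (Dvd.dvd.mul_right (Dvd.dvd.mul_right (Dvd.intro_left _ rfl) _) _) _
    have hT := named_e7 (F := F) tb
    rw [hq] at hT
    rw [← hT.eq] at h2
    refine (hs.prime.dvd_mul.1 h2).resolve_left fun h3 => ?_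
    have h4 := Nat.le_of_dvd (by norm_num) (h3.trans (Nat.gcd_dvd_left 2 (p ^ f - 1)))
    have h5 : f * 5 < s := lt_of_prim hp.two_le (by omega) hs
    omega
  have := Fact.mk hs.prime
  obtain ⟨z, hz⟩ := exists_prime_orderOf_dvd_card' s hsG
  have key : ∀ B : Subgroup ↥(Lie.chevE7.group F), B ≠ ⊤ → (Av x9 B ∨ Av x14 B) ∧ (Av x18 B ∨ Av x7 B) ∧
      (Av x14 B ∨ Av x18 B) ∧ (Av x9 B ∨ Av x18 B ∨ Av z B) ∧ (Av x7 B ∨ Av x14 B ∨ Av z B) := by
    intro B hB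
    have o7 : ¬ Av x7 B → ∀ s, Prim (p ^ f) 7 s → ¬ s ∣ B.index := fun h => by
      obtain ⟨g, hg⟩ := not_av h
      exact off7 (by omega) hq h7 hg
    have o9 : ¬ Av x9 B → ∀ s, Prim (p ^ f) 9 s → ¬ s ∣ B.index := fun h => by
      obtain ⟨g, hg⟩ := not_av h
      exact off7 (by omega) hq h9 hg
    have o14 : ¬ Av x14 B → ∀ s, Prim (p ^ f) 14 s → ¬ s ∣ B.index := fun h => by
      obtain ⟨g, hg⟩ := not_av h
      exact off7 (by omega) hq h14 hg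
    have o18 : ¬ Av x18 B → ∀ s, Prim (p ^ f) 18 s → ¬ s ∣ B.index := fun h => by
      obtain ⟨g, hg⟩ := not_av h
      exact off7 (by omega) hq h18 hg
    have oz : ¬ Av z B → s ∣ Nat.card B := fun h => by
      obtain ⟨g, hg⟩ := not_av h
      rw [← hz, ← orderOf_conj' g z, ← Subgroup.orderOf_mk _ hg]
      exact orderOf_dvd_natCard _
    have off2 : ∀ {c d : ℕ}, (∀ s, Prim (p ^ f) c s → ¬ s ∣ B.index) → (∀ s, Prim (p ^ f) d s → ¬ s ∣ B.index) →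
        Off (p ^ f) [c, d] B := by
      intro c d h1 h2 e he
      simp only [List.mem_cons, List.not_mem_nil, or_false] at he
      rcases he with rfl | rfl
      · exact h1
      · exact h2
    refine ⟨?_, ?_, ?_, ?_, ?_⟩
    · by_contra hcon
      push Not at hcon
      exact hB (K_E7a tb hcyc hcf B (by rw [hq]; exact off2 (o9 hcon.1) (o14 hcon.2)))
    · by_contra hcon
      push Not at hcon
      exact hB (K_E7b tb hcyc hcf B (by rw [hq]; exact off2 (o18 hcon.1) (o7 hcon.2)))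
    · by_contra hcon
      push Not at hcon
      obtain ⟨g, hg⟩ := not_av hcon.1
      obtain ⟨g', hg'⟩ := not_av hcon.2
      refine hB (K_E7e tb hcyc hcf hp hf hq B (off2 (o14 hcon.1) (o18 hcon.2)) (x := ⟨_, hg⟩) (y := ⟨_, hg'⟩) ?_ ?_)
      · rw [Subgroup.orderOf_mk, orderOf_conj']
        exact ncl_dvd_order (by omega) hq2 h14
      · rw [Subgroup.orderOf_mk, orderOf_conj']
        exact ncl_dvd_order (by omega) hq2 h18
    · by_contra hcon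
      push Not at hcon
      exact hB (K_E7c tb hcyc hcf hp hf hq hs B (off2 (o9 hcon.1) (o18 hcon.2.1)) (oz hcon.2.2))
    · by_contra hcon
      push Not at hcon
      exact hB (K_E7d tb hcyc hcf hp hf hq hs B (off2 (o7 hcon.1) (o14 hcon.2.1)) (oz hcon.2.2))
  intro H K hH hK
  by_contra hcon
  push Not at hcon
  have c7 := hcon x7
  have c9 := hcon x9
  have c14 := hcon x14
  have c18 := hcon x18
  have cz := hcon z
  by_cases h : Av x14 H
  · exact pick7 (key K hK) (key H hH) (fun a b => c7 b a) (fun a b => c9 b a) (fun a b => c18 b a)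
      (fun a b => cz b a) (c14 h)
  · exact pick7 (key H hH) (key K hK) c7 c9 c18 cz h

end

/-- **`E₇(q)`.** -/
theorem noTwo_e7 (tb : OrderTable.{0}) (hcyc : CycFixSolv.{0}) (hcf : CF) {q : ℕ} {T : Type*} [Group T]
    (h : IsNamed (.e7 q) T) : NoTwo T := by
  obtain ⟨F, _, _, rfl, ⟨e⟩⟩ := h.real
  exact (noTwo_chevE7 (F := F) tb hcyc hcf).congr e.symm

end Cfsg.Agent.H325.Cov
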