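import Cfsg.Agent.H325.Cov.Tab7
import Cfsg.Agent.H325.Same.ExcCov7

/-!
# Subgroups of `E₇(q)` containing the classes {9, 18} or {7, 14} and a prime of class 5 (helper325)
-/

set_option autoImplicit false

namespace Cfsg.Agent.H325.Cov

open Cfsg Cfsg.Agent.OrdDiv Cfsg.Agent.H436 Cfsg.Agent.H902 Cfsg.Agent.H290.ElReg Cfsg.Agent.H290.ElTab
  Cfsg.Agent.H56.Exc Cfsg.Agent.H325.Loc Cfsg.Agent.H915.GN Cfsg.Agent.H264.FKS Cfsg.Agent.H325.Same Cfsg.Agent.H325.IsoExc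
  Cfsg.Agent.H325.IsoFree Cfsg.Agent.H563.KG

/-- **`E₇(q)`, the classes 9, 18.** -/
theorem good_E7c {G : Type*} [Group G] [Finite G] {q n : ℕ} (hn : n ≤ 133) (hq : 2 ≤ q)
    (h9 : Ord G q 9 ((q - 1) * Ph 9 q / Nat.gcd 2 (q - 1)))
    (h18 : Ord G q 18 ((q + 1) * Ph 18 q / Nat.gcd 2 (q - 1))) (hd : Nat.card G ∣ OL .E7 q)
    (g9 : ncl 9 q ∣ Nat.card G) (g18 : ncl 18 q ∣ Nat.card G)
    {t : ℕ} (ht : t.Prime) (ht2 : t = 2 → Odd q) (ht9 : ¬ Prim q 9 t) (ht18 : ¬ Prim q 18 t) : Good G n t := by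
  have hq1 : 1 ≤ q := by omega
  have c9 : Cls 9 := by unfold Cls; omega
  have c18 : Cls 18 := by unfold Cls; omega
  rcases eq_or_lt_of_le hq with rfl | hq3
  · have h1 := not_dvd_of_not_prim c9 hq1 ht ht9
    have h1' := not_dvd_of_not_prim c18 hq1 ht ht18
    have h2 : (2 - 1) * Ph 9 2 / Nat.gcd 2 (2 - 1) = ncl 9 2 := by decide +kernel
    have h3 : (2 + 1) * Ph 18 2 / Nat.gcd 2 (2 - 1) = 9 * ncl 18 2 := by decide +kernel
    rw [h2] at h9
    rw [h3] at h18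
    by_cases h7 : t = 3
    · subst h7
      refine good_pr h9 c9 hq1 ht h1 (by decide +kernel) g9 ?_
      intro k hk hkG
      have h2 : k ≤ 11 := pow_bound (M := OL .E7 2) (by decide +kernel) (hkG.trans hd)
      have h3 : ncl 9 2 = 73 := by decide +kernel
      rw [h3]
      interval_cases k <;> norm_num
    · refine good_two h9 h18 c9 c18 (by norm_num) hq1 ht h1 ?_ (lt_of_le_of_lt hn (by decide +kernel)) g9 g18
      intro h2
      rcases ht.dvd_mul.1 h2 with h3 | h3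
      · have h4 : t ∣ 3 ^ 2 := h3
        exact h7 ((Nat.prime_dvd_prime_iff_eq ht (by norm_num)).1 (ht.dvd_of_dvd_pow h4))
      · exact h1' h3
  · by_cases h1 : t ∣ (q - 1) * Ph 9 q / Nat.gcd 2 (q - 1)
    · refine good_one h18 c18 hq1 ht (fun h2 => ?_) (by have := ncl18_gt hq3; omega) g18
      exact no_both hq1 ht ht2 (fun ho => ph_odd hq1 ho (by omega)) (fun ho => ph_odd hq1 ho (by omega))
        (sub_of_nine hq1 ht ht9) (add_of_eighteen hq1 ht ht18) h1 h2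
    · exact good_one h9 c9 hq1 ht h1 (by have := ncl9_gt hq3; omega) g9

/-- **`E₇(q)`, the classes 7, 14.** -/
theorem good_E7d {G : Type*} [Group G] [Finite G] {q n : ℕ} (hn : n ≤ 133) (hq : 2 ≤ q)
    (h7 : Ord G q 7 ((q - 1) * Ph 7 q / Nat.gcd 2 (q - 1)))
    (h14 : Ord G q 14 ((q + 1) * Ph 14 q / Nat.gcd 2 (q - 1))) (hd : Nat.card G ∣ OL .E7 q)
    (g7 : ncl 7 q ∣ Nat.card G) (g14 : ncl 14 q ∣ Nat.card G)
    {t : ℕ} (ht : t.Prime) (ht2 : t = 2 → Odd q) (ht7 : ¬ Prim q 7 t) (ht14 : ¬ Prim q 14 t) : Good G n t := by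
  have hq1 : 1 ≤ q := by omega
  have c7 : Cls 7 := by unfold Cls; omega
  have c14 : Cls 14 := by unfold Cls; omega
  rcases eq_or_lt_of_le hq with rfl | hq3
  · have h1 := not_dvd_of_not_prim c7 hq1 ht ht7
    have h1' := not_dvd_of_not_prim c14 hq1 ht ht14
    have h2 : (2 - 1) * Ph 7 2 / Nat.gcd 2 (2 - 1) = ncl 7 2 := by decide +kernel
    have h3 : (2 + 1) * Ph 14 2 / Nat.gcd 2 (2 - 1) = 3 * ncl 14 2 := by decide +kernel
    rw [h2] at h7
    rw [h3] at h14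
    by_cases h9 : t = 3
    · subst h9
      refine good_pr h7 c7 hq1 ht h1 (by decide +kernel) g7 ?_
      intro k hk hkG
      have h2 : k ≤ 11 := pow_bound (M := OL .E7 2) (by decide +kernel) (hkG.trans hd)
      have h3 : ncl 7 2 = 127 := by decide +kernel
      rw [h3]
      interval_cases k <;> norm_num
    · refine good_two h7 h14 c7 c14 (by norm_num) hq1 ht h1 ?_ (lt_of_le_of_lt hn (by decide +kernel)) g7 g14
      intro h2
      rcases ht.dvd_mul.1 h2 with h3 | h3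
      · exact h9 ((Nat.prime_dvd_prime_iff_eq ht (by norm_num)).1 h3)
      · exact h1' h3
  · by_cases h1 : t ∣ (q - 1) * Ph 7 q / Nat.gcd 2 (q - 1)
    · refine good_one h14 c14 hq1 ht (fun h2 => ?_) (by have := ncl14_gt hq3; omega) g14
      exact no_both hq1 ht ht2 (fun ho => ph_odd hq1 ho (by omega)) (fun ho => ph_odd hq1 ho (by omega))
        (sub_of_seven hq1 ht ht7) (add_of_fourteen hq1 ht ht14) h1 h2
    · exact good_one h7 c7 hq1 ht h1 (by have := ncl7_gt hq3; omega) g7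

/-- a prime of class 5 does not divide the orders of the normalisers of the tori -/
theorem five_not_dvd {q s c : ℕ} (hq : 2 ≤ q) (hs : Prim q 5 s) (hc : c = 7 ∨ c = 9 ∨ c = 14 ∨ c = 18)
    (h : s ∣ E7 c * M7 q c) : False := by
  have h5 := lt_of_prim hq (by norm_num) hs
  have h7 : s ≠ 7 := by
    rintro rfl
    have := mod_of_prim hq (by norm_num) hs
    norm_num at this
  rcases hs.prime.dvd_mul.1 h with h1 | h1
  · have h2 : E7 c = 14 ∨ E7 c = 18 := by unfold E7; split <;> simp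
    rcases h2 with h2 | h2
    · rw [h2] at h1
      rcases hs.prime.dvd_mul.1 (show s ∣ 2 * 7 from h1) with h3 | h3
      · have := Nat.le_of_dvd (by norm_num) h3
        omega
      · exact h7 ((Nat.prime_dvd_prime_iff_eq hs.prime (by norm_num)).1 h3)
    · rw [h2] at h1
      rcases hs.prime.dvd_mul.1 (show s ∣ 2 * 3 ^ 2 from h1) with h3 | h3
      · have := Nat.le_of_dvd (by norm_num) h3
        omega
      · have := Nat.le_of_dvd (by norm_num) (hs.prime.dvd_of_dvd_pow h3)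
        omega
  · have h2 := h1.trans (m7_dvd hc (by omega))
    rw [hs.dvd_iff] at h2
    rcases hc with rfl | rfl | rfl | rfl <;> omega

/-- a prime of class 5 not dividing the index of the simple subgroup -/
theorem five_dvd {q s c : ℕ} (hq : 2 ≤ q) (hs : Prim q 5 s) (hc : c = 7 ∨ c = 9 ∨ c = 14 ∨ c = 18)
    {N i k : ℕ} (hi : i ∣ E7 c * M7 q c) (hN : N = k * i) (hsN : s ∣ N) : s ∣ k := by
  rw [hN] at hsN
  rcases hs.prime.dvd_mul.1 hsN with h | h
  · exact h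
  · exact (five_not_dvd hq hs hc (h.trans hi)).elim

/-- **`E₇(q)`, the classes 9, 18 and a prime of class 5.** -/
theorem K_E7c (tb : OrderTable.{0}) (hcyc : CycFixSolv.{0}) (hcf : CF) {F : Type} [Field F] [Fintype F]
    {p f s : ℕ} (hp : p.Prime) (hf : 1 ≤ f) (hq : Fintype.card F = p ^ f) (hs : Prim p (f * 5) s)
    (B : Subgroup ↥(Lie.chevE7.group F)) (hoff : Off (p ^ f) [9, 18] B) (hsB : s ∣ Nat.card B) : B = ⊤ := by
  have := Fact.mk hp
  have hchar : CharP F p := by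
    obtain ⟨p', f', h', hp', hf', hq'⟩ := exists_pf F
    have h1 : p ^ f = p' ^ f' := hq ▸ hq'
    have h2 : p ∣ p' ^ f' := h1 ▸ dvd_pow_self p (by omega)
    obtain rfl := (Nat.prime_dvd_prime_iff_eq hp hp').1 (hp.dvd_of_dvd_pow h2)
    exact h'
  have hfin : Finite ↥(Lie.chevE7.group F) := inferInstance
  have hT := named_e7 (F := F) tb
  rw [hq] at hT
  have hq2 : 2 ≤ p ^ f := hp.two_le.trans (Nat.le_self_pow (by omega) p)
  have hq1 : 1 ≤ p ^ f := by omega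
  have hOL : num (.e7 (p ^ f)) = OL .E7 (p ^ f) := rfl
  have hdT : Nat.card ↥(Lie.chevE7.group F) ∣ OL .E7 (p ^ f) := by
    rw [← hOL, ← hT.eq]
    exact Dvd.intro_left _ rfl
  have hmem : ∀ c ∈ [9, 18], c = 7 ∨ c = 9 ∨ c = 14 ∨ c = 18 := by decide
  have hcl : ∀ c ∈ [9, 18], Cls c := by
    intro c hc
    have := hmem c hc
    unfold Cls
    omega
  have h7 : ∀ c ∈ [9, 18], 7 ≤ c := by decide
  have hnT : ∀ c ∈ [9, 18], ncl c (p ^ f) ∣ Nat.card ↥(Lie.chevE7.group F) := fun c hc =>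
    ncl_dvd_card (hcl c hc) (h7 c hc) hq2 (den_pos hT.cond)
      ((Nat.gcd_le_left _ (by norm_num)).trans (by norm_num)) hT.eq ((ncl_dvd_Ph c _).trans (ph_dvd_num (hmem c hc) hq1))
  obtain ⟨r₀, hr₀⟩ := exists_prim hq2 (show 3 ≤ 18 by norm_num) (by norm_num)
  have hpiso : PIso p r₀ ↥(Lie.chevE7.group F) := piso_E7_18 (F := F) (by rw [hq]; exact hr₀)
  have hdB : Nat.card ↥B ∣ OL .E7 (p ^ f) := (Subgroup.card_subgroup_dvd_card B).trans hdT
  have hbig : ∀ c ∈ [9, 18], ∀ r, Prim (p ^ f) c r → Big ↥(Lie.chevE7.group F) r (M7 (p ^ f) c) (E7 c) :=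
    fun c hc r hr => big7 (hmem c hc) hq hr
  have hred := red_good (n := 133) (M := M7 (p ^ f)) (E := E7) hcyc hcl hp (F := F) fth_E7 hbig hnT (c₀ := 18)
    (by decide) hr₀ hpiso hoff (fun t ht htp htn htB => by
      refine good_E7c (by norm_num) hq2 ((ord9 hq).sub B) ((ord18 hq).sub B) hdB ?_ ?_ ht ?_ (htn 9 (by decide))
        (htn 18 (by decide))
      · exact hoff.ncl_dvd (by decide) c9 hq1 (hnT 9 (by decide))
      · exact hoff.ncl_dvd (by decide) c18 hq1 (hnT 18 (by decide))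
      · rintro rfl
        rw [← Nat.not_even_iff_odd, Nat.even_pow]
        rintro ⟨h1, -⟩
        exact htp ((Nat.prime_dvd_prime_iff_eq Nat.prime_two hp).1 h1.two_dvd))
  obtain ⟨S, hSn, hSs, hSna, hnS, hidx, hbS, g, hg, hch⟩ := coreX tb hcyc hcf
    (ElimX.of_tbl tbl_E7c (fam := [9, 18]) (by decide) hp hf) (e := 9) (e' := 18) (by decide) (by decide)
    (dist_9_18 hq2) hcl h7 hp hf (F := F) fth_E7 hdT hbig hnT (c₀ := 18) (by decide) hr₀
    (fun c hc h => five_not_dvd hq2 (Cfsg.Agent.H264.GN.prim_pow hf hs) (hmem c hc) (hsB.trans h)) hoff hred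
  have hdS : Nat.card S ∣ num (.e7 (p ^ f)) := IsNamed.card_dvd hT S
  have hsS : s ∣ Nat.card S := five_dvd hq2 (Cfsg.Agent.H264.GN.prim_pow hf hs) (hmem 9 (by decide)) (hidx 9 (by decide))
    (S.card_mul_index).symm hsB
  obtain rfl := charp_e7_918 hp hf hg.cond hch hg.eq hdS ⟨s, hs, hsS⟩
    (fun s hs _ => (hbS 9 (by decide) s hs).2.2) (fun s hs _ => (hbS 18 (by decide) s hs).2.2)
  exact eq_top_of_name hT hg

/-- **`E₇(q)`, the classes 7, 14 and a prime of class 5.** -/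
theorem K_E7d (tb : OrderTable.{0}) (hcyc : CycFixSolv.{0}) (hcf : CF) {F : Type} [Field F] [Fintype F]
    {p f s : ℕ} (hp : p.Prime) (hf : 1 ≤ f) (hq : Fintype.card F = p ^ f) (hs : Prim p (f * 5) s)
    (B : Subgroup ↥(Lie.chevE7.group F)) (hoff : Off (p ^ f) [7, 14] B) (hsB : s ∣ Nat.card B) : B = ⊤ := by
  have := Fact.mk hp
  have hchar : CharP F p := by
    obtain ⟨p', f', h', hp', hf', hq'⟩ := exists_pf F
    have h1 : p ^ f = p' ^ f' := hq ▸ hq'
    have h2 : p ∣ p' ^ f' := h1 ▸ dvd_pow_self p (by omega)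
    obtain rfl := (Nat.prime_dvd_prime_iff_eq hp hp').1 (hp.dvd_of_dvd_pow h2)
    exact h'
  have hfin : Finite ↥(Lie.chevE7.group F) := inferInstance
  have hT := named_e7 (F := F) tb
  rw [hq] at hT
  have hq2 : 2 ≤ p ^ f := hp.two_le.trans (Nat.le_self_pow (by omega) p)
  have hq1 : 1 ≤ p ^ f := by omega
  have hOL : num (.e7 (p ^ f)) = OL .E7 (p ^ f) := rfl
  have hdT : Nat.card ↥(Lie.chevE7.group F) ∣ OL .E7 (p ^ f) := by
    rw [← hOL, ← hT.eq]
    exact Dvd.intro_left _ rfl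
  have hmem : ∀ c ∈ [7, 14], c = 7 ∨ c = 9 ∨ c = 14 ∨ c = 18 := by decide
  have hcl : ∀ c ∈ [7, 14], Cls c := by
    intro c hc
    have := hmem c hc
    unfold Cls
    omega
  have h7 : ∀ c ∈ [7, 14], 7 ≤ c := by decide
  have hnT : ∀ c ∈ [7, 14], ncl c (p ^ f) ∣ Nat.card ↥(Lie.chevE7.group F) := fun c hc =>
    ncl_dvd_card (hcl c hc) (h7 c hc) hq2 (den_pos hT.cond)
      ((Nat.gcd_le_left _ (by norm_num)).trans (by norm_num)) hT.eq ((ncl_dvd_Ph c _).trans (ph_dvd_num (hmem c hc) hq1))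
  obtain ⟨r₀, hr₀⟩ := exists_prim hq2 (show 3 ≤ 14 by norm_num) (by norm_num)
  have hpiso : PIso p r₀ ↥(Lie.chevE7.group F) := piso_E7 (F := F) (by rw [hq]; exact hr₀)
  have hdB : Nat.card ↥B ∣ OL .E7 (p ^ f) := (Subgroup.card_subgroup_dvd_card B).trans hdT
  have hbig : ∀ c ∈ [7, 14], ∀ r, Prim (p ^ f) c r → Big ↥(Lie.chevE7.group F) r (M7 (p ^ f) c) (E7 c) :=
    fun c hc r hr => big7 (hmem c hc) hq hr
  have hred := red_good (n := 133) (M := M7 (p ^ f)) (E := E7) hcyc hcl hp (F := F) fth_E7 hbig hnT (c₀ := 14)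
    (by decide) hr₀ hpiso hoff (fun t ht htp htn htB => by
      refine good_E7d (by norm_num) hq2 ((ord7 hq).sub B) ((ord14 hq).sub B) hdB ?_ ?_ ht ?_ (htn 7 (by decide))
        (htn 14 (by decide))
      · exact hoff.ncl_dvd (by decide) c7 hq1 (hnT 7 (by decide))
      · exact hoff.ncl_dvd (by decide) c14 hq1 (hnT 14 (by decide))
      · rintro rfl
        rw [← Nat.not_even_iff_odd, Nat.even_pow]
        rintro ⟨h1, -⟩
        exact htp ((Nat.prime_dvd_prime_iff_eq Nat.prime_two hp).1 h1.two_dvd))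
  obtain ⟨S, hSn, hSs, hSna, hnS, hidx, hbS, g, hg, hch⟩ := coreX tb hcyc hcf
    (elimX_714 hp hf) (e := 7) (e' := 14) (by decide) (by decide)
    (dist_7_14 hq2) hcl h7 hp hf (F := F) fth_E7 hdT hbig hnT (c₀ := 14) (by decide) hr₀
    (fun c hc h => five_not_dvd hq2 (Cfsg.Agent.H264.GN.prim_pow hf hs) (hmem c hc) (hsB.trans h)) hoff hred
  have hdS : Nat.card S ∣ num (.e7 (p ^ f)) := IsNamed.card_dvd hT S
  have hsS : s ∣ Nat.card S := five_dvd hq2 (Cfsg.Agent.H264.GN.prim_pow hf hs) (hmem 7 (by decide)) (hidx 7 (by decide))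
    (S.card_mul_index).symm hsB
  obtain rfl := charp_e7_714 hp hf hg.cond hch hg.eq hdS ⟨s, hs, hsS⟩
    (fun s hs _ => (hbS 7 (by decide) s hs).2.2) (fun s hs _ => (hbS 14 (by decide) s hs).2.2)
  exact eq_top_of_name hT hg

end Cfsg.Agent.H325.Cov
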