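import Cfsg.Agent.H563.KG.Kill

/-!
# Commuting elements in two blocks of `PSU_{d+k}(q)` (helper325)
-/

set_option autoImplicit false

namespace Cfsg.Agent.H325.Cov

open Matrix Cfsg Cfsg.Agent.H674.SUBlock Cfsg.Agent.H674.SUTools Cfsg.Agent.LieClassical

variable {F : Type*} [Field F] [Fintype F] {q d k : ℕ}

/-- the second block -/
def ext2 (hF : Fintype.card F = q ^ 2) (d : ℕ) (B : SU k F q) : SU (d + k) F q :=
  mkSU hF (blk (d := d) (k := k) 1 (cm B))
    (by rw [det_blk, Matrix.det_one, one_mul]; exact B.1.2)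
    (isom_blk hF (isom_one hF) ((GUOrder.mul_map_eq_one_iff hF _).1 B.2))

theorem cm_ext2 (hF : Fintype.card F = q ^ 2) (B : SU k F q) :
    cm (ext2 hF d B) = blk (d := d) (k := k) 1 (cm B) := rfl

theorem ext2_pow (hF : Fintype.card F = q ^ 2) (B : SU k F q) (n : ℕ) : ext2 hF d B ^ n = ext2 hF d (B ^ n) := by
  apply cm_injective
  rw [map_pow, cm_ext2, cm_ext2, map_pow]
  induction n with
  | zero => rw [pow_zero, pow_zero, blk_one]
  | succ n ih => rw [pow_succ, ih, pow_succ, ← blk_mul, one_mul]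

theorem ext2_one (hF : Fintype.card F = q ^ 2) : ext2 hF d (1 : SU k F q) = 1 := by
  apply cm_injective
  rw [cm_ext2, map_one, map_one, blk_one]

theorem comm_ext (hF : Fintype.card F = q ^ 2) (A : SU d F q) (B : SU k F q) :
    Commute (ext hF k A) (ext2 hF d B) := by
  apply cm_injective
  rw [map_mul, map_mul, cm_ext, cm_ext2, ← blk_mul, ← blk_mul, one_mul, mul_one, one_mul, mul_one]

theorem eq_one_of_ext2 (hF : Fintype.card F = q ^ 2) (hn : 3 ≤ d + k) (hd : 0 < d)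
    {B : SU k F q} (h : ext2 hF d B ∈ Subgroup.center (SU (d + k) F q)) : B = 1 := by
  obtain ⟨c, hc1, hc2, h1⟩ := (SUBasic.mem_center_SU_iff hF hn _).1 h
  have h2 : blk (1 : Matrix (Fin d) (Fin d) F) (cm B) = Matrix.diagonal (fun _ => c) := congrArg cm h1
  have h3 : c = 1 := by
    have h4 := congrFun (congrFun h2 (Fin.castAdd k ⟨0, hd⟩)) (Fin.castAdd k ⟨0, hd⟩)
    rw [blk_castAdd, Matrix.one_apply_eq, Matrix.diagonal_apply_eq] at h4
    exact h4.symm
  rw [← cm_eq_one_iff]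
  subst h3
  have h5 : (Matrix.diagonal (fun _ => (1 : F)) : Matrix (Fin (d + k)) (Fin (d + k)) F) = 1 := Matrix.diagonal_one
  rw [h5, ← blk_one] at h2
  exact (blk_inj h2).2

/-- **Elements of prime orders in two blocks.** -/
theorem psu_comm (hF : Fintype.card F = q ^ 2) (hn : 3 ≤ d + k) (hd : 0 < d) (hk : 0 < k) {r p : ℕ} (hr : r.Prime)
    (hp : p.Prime) (hrd : r ∣ Nat.card (SU d F q)) (hpk : p ∣ Nat.card (SU k F q)) :
    ∃ x y : PSU (d + k) F q, orderOf x = r ∧ orderOf y = p ∧ Commute x y := by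
  have := Fact.mk hr
  have := Fact.mk hp
  obtain ⟨A, hA⟩ := exists_prime_orderOf_dvd_card' r hrd
  obtain ⟨B, hB⟩ := exists_prime_orderOf_dvd_card' p hpk
  refine ⟨pr (ext hF k A), pr (ext2 hF d B), ?_, ?_, (comm_ext hF A B).map pr⟩
  · have h1 := orderOf_injective _ (pr_ext_injective (d := d) (k := k) hF hn hk) A
    rw [hA] at h1
    exact h1
  · refine orderOf_eq_prime ?_ fun h => ?_
    · rw [← map_pow, ext2_pow, ← hB, pow_orderOf_eq_one, ext2_one, map_one]
    · have h1 := eq_one_of_ext2 hF hn hd ((pr_eq_one_iff _).1 h)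
      rw [h1, orderOf_one] at hB
      exact hp.one_lt.ne hB

/-- `p ∣ |SU_k(q)|` -/
theorem dvd_su_p (hF : Fintype.card F = q ^ 2) {p : ℕ} (hp : p.Prime) (hpq : p ∣ q) (hk : 2 ≤ k) :
    p ∣ Nat.card (SU k F q) := by
  have h := Cfsg.Agent.S0278.result hF k (by omega)
  have h3 : p ∣ (q + 1) * Nat.card (SU k F q) := by
    rw [h]
    refine Dvd.dvd.mul_right (dvd_pow hpq ?_) _
    have : 2 * 1 ≤ k * (k - 1) := Nat.mul_le_mul hk (by omega)
    omega
  rcases hp.dvd_mul.1 h3 with h4 | h4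
  · exfalso
    have h5 : p ∣ (q + 1) - q := Nat.dvd_sub h4 hpq
    rw [Nat.add_sub_cancel_left] at h5
    exact hp.one_lt.ne' (Nat.dvd_one.1 h5)
  · exact h4

/-- `r ∣ |SU_d(q)|`, `d` odd, `r ∣ q^d + 1` -/
theorem dvd_su_r (hF : Fintype.card F = q ^ 2) {r : ℕ} (hr : r.Prime) (hd : Odd d) (h1 : r ∣ q ^ d + 1) (h2 : ¬ r ∣ q + 1) :
    r ∣ Nat.card (SU d F q) := by
  obtain ⟨e, rfl⟩ := hd
  have h := Cfsg.Agent.S0278.result hF (2 * e + 1) (by omega)
  have h3 : r ∣ (q + 1) * Nat.card (SU (2 * e + 1) F q) := by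
    rw [h]
    refine Dvd.dvd.mul_left ?_ _
    rw [Finset.prod_range_succ]
    refine Dvd.dvd.mul_left ?_ _
    rw [if_pos (by simp)]
    exact h1
  exact (hr.dvd_mul.1 h3).resolve_left h2

end Cfsg.Agent.H325.Cov
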