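import Cfsg.Agent.H325.Cov.KE7
import Cfsg.Agent.H325.Cov.Act
import Cfsg.Agent.H325.Cov.Psu
import Cfsg.Agent.H129.E7Common

/-!
# Subgroups of `E₇(q)` containing generators of the tori of classes 14 and 18 (helper325)
-/

set_option autoImplicit false

namespace Cfsg.Agent.H325.Cov

open Cfsg Cfsg.Agent.OrdDiv Cfsg.Agent.H436 Cfsg.Agent.H902 Cfsg.Agent.H290.ElReg Cfsg.Agent.H290.ElTab
  Cfsg.Agent.H56.Exc Cfsg.Agent.H325.Loc Cfsg.Agent.H915.GN Cfsg.Agent.H264.FKS Cfsg.Agent.H325.Same Cfsg.Agent.H325.IsoExc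
  Cfsg.Agent.H325.IsoFree Cfsg.Agent.H563.KG

/-- the part of order `n` of an element -/
theorem orderOf_part {G : Type*} [Group G] [Finite G] {y : G} {n : ℕ} (h : n ∣ orderOf y) :
    orderOf (y ^ (orderOf y / n)) = n := by
  have h0 : 0 < orderOf y := orderOf_pos y
  have hn : 0 < n := Nat.pos_of_dvd_of_pos h h0
  rw [orderOf_pow_of_dvd (Nat.div_pos (Nat.le_of_dvd h0 h) hn).ne' (Nat.div_dvd_of_dvd h), Nat.div_div_self h h0.ne']

/-- `p` divides the order of the centraliser -/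
theorem kill_psu9 {S : Type*} [Group S] [Finite S] {p f r n M e : ℕ} (hp : p.Prime) (hf : 1 ≤ f) (hn : n = 9 ∨ n = 10)
    (hS : IsNamed (.psu n (p ^ f)) S) (hr : Prim (p ^ f) 14 r) (hb : Big S r M e) (hM : ¬ p ∣ M) : False := by
  obtain ⟨K, _, _, hK, ⟨e⟩⟩ := hS.real
  have hq2 : 2 ≤ p ^ f := hp.two_le.trans (Nat.le_self_pow (by omega) p)
  have h1 : r ∣ (p ^ f) ^ 7 + 1 := by
    have h2 : r ∣ (p ^ f) ^ 14 - 1 := hr.dvd dvd_rfl
    have h3 : ((p ^ f) ^ 7 - 1) * ((p ^ f) ^ 7 + 1) = (p ^ f) ^ 14 - 1 := by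
      have := Nat.sq_sub_sq ((p ^ f) ^ 7) 1
      rw [one_pow, ← pow_mul] at this
      rw [mul_comm, this]
    rw [← h3] at h2
    rcases hr.prime.dvd_mul.1 h2 with h4 | h4
    · rw [hr.dvd_iff] at h4
      omega
    · exact h4
  have h2 : ¬ r ∣ p ^ f + 1 := by
    intro h
    have h3 : r ∣ (p ^ f) ^ 2 - 1 := by
      have := Nat.sq_sub_sq (p ^ f) 1
      rw [one_pow] at this
      rw [this]
      exact h.mul_right _
    rw [hr.dvd_iff] at h3
    omega
  have key : ∀ k, 2 ≤ k → n = 7 + k → False := by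
    intro k hk hnk
    subst hnk
    obtain ⟨x, y, hx, hy, hxy⟩ := psu_comm (d := 7) (k := k) hK (by omega) (by norm_num) (by omega) hr.prime hp
      (dvd_su_r hK hr.prime ⟨3, rfl⟩ h1 h2) (dvd_su_p hK hp (dvd_pow_self p (by omega)) hk)
    have h4 := hb.card (e.symm x) (by rw [MulEquiv.orderOf_eq, hx])
    apply hM
    refine dvd_trans ?_ h4
    have h5 : e.symm y ∈ Subgroup.centralizer ({e.symm x} : Set S) := by
      rw [Subgroup.mem_centralizer_singleton_iff, ← map_mul, ← map_mul, hxy.eq]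
    have h6 : orderOf (⟨e.symm y, h5⟩ : ↥(Subgroup.centralizer ({e.symm x} : Set S))) = p := by
      rw [← Subgroup.orderOf_coe, MulEquiv.orderOf_eq, hy]
    exact (dvd_of_eq h6.symm).trans (orderOf_dvd_natCard _)
  rcases hn with rfl | rfl
  · exact key 2 le_rfl rfl
  · exact key 3 (by norm_num) rfl

/-- the primes `t` for which a normal `t`-subgroup could exist, `q = 2` -/
theorem two_43 {t k : ℕ} (ht : t.Prime) (ht2 : t ≠ 2) (ht43 : t ≠ 43) (hk : 0 < k) (h : t ^ k ∣ OL .E7 2) : ¬ 43 ∣ t ^ k - 1 := by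
  have h1 : t ∣ 2 ^ 63 * (3 * 5 * 7 * 11 * 13 * 17 * 19 * 31 * 43 * 73 * 127) ^ 11 :=
    ((dvd_pow_self t hk.ne').trans h).trans (Nat.dvd_of_mod_eq_zero (by decide +kernel))
  have key : ∀ m, t ∣ m → m.Prime → t = m := fun m h1 h2 => (Nat.prime_dvd_prime_iff_eq ht h2).1 h1
  rcases ht.dvd_mul.1 h1 with h2 | h2
  · exact absurd (key 2 (ht.dvd_of_dvd_pow h2) Nat.prime_two) ht2
  have h3 := ht.dvd_of_dvd_pow h2
  simp only [ht.dvd_mul] at h3
  rcases h3 with (((((((((h3 | h3) | h3) | h3) | h3) | h3) | h3) | h3) | h3) | h3) | h3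
  · obtain rfl := key 3 h3 (by norm_num)
    have : k ≤ 11 := pow_bound (M := OL .E7 2) (by decide +kernel) h
    interval_cases k <;> norm_num
  · obtain rfl := key 5 h3 (by norm_num)
    have : k ≤ 2 := pow_bound (M := OL .E7 2) (by decide +kernel) h
    interval_cases k <;> norm_num
  · obtain rfl := key 7 h3 (by norm_num)
    have : k ≤ 3 := pow_bound (M := OL .E7 2) (by decide +kernel) h
    interval_cases k <;> norm_num
  · obtain rfl := key 11 h3 (by norm_num)
    have : k ≤ 1 := pow_bound (M := OL .E7 2) (by decide +kernel) h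
    interval_cases k <;> norm_num
  · obtain rfl := key 13 h3 (by norm_num)
    have : k ≤ 1 := pow_bound (M := OL .E7 2) (by decide +kernel) h
    interval_cases k <;> norm_num
  · obtain rfl := key 17 h3 (by norm_num)
    have : k ≤ 1 := pow_bound (M := OL .E7 2) (by decide +kernel) h
    interval_cases k <;> norm_num
  · obtain rfl := key 19 h3 (by norm_num)
    have : k ≤ 1 := pow_bound (M := OL .E7 2) (by decide +kernel) h
    interval_cases k <;> norm_num
  · obtain rfl := key 31 h3 (by norm_num)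
    have : k ≤ 1 := pow_bound (M := OL .E7 2) (by decide +kernel) h
    interval_cases k <;> norm_num
  · exact absurd (key 43 h3 (by norm_num)) ht43
  · obtain rfl := key 73 h3 (by norm_num)
    have : k ≤ 1 := pow_bound (M := OL .E7 2) (by decide +kernel) h
    interval_cases k <;> norm_num
  · obtain rfl := key 127 h3 (by norm_num)
    have : k ≤ 1 := pow_bound (M := OL .E7 2) (by decide +kernel) h
    interval_cases k <;> norm_num

theorem two_19 {k : ℕ} (hk : 0 < k) (h : 3 ^ k ∣ OL .E7 2) : ¬ 19 ∣ 3 ^ k - 1 := by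
  have : k ≤ 11 := pow_bound (M := OL .E7 2) (by decide +kernel) h
  interval_cases k <;> norm_num

section

variable {F : Type} [Field F] [Fintype F] {p f : ℕ}

/-- a generator of a torus centralises a normal elementary abelian subgroup of `B` -/
theorem cent_of_gen {c t : ℕ} (hp : p.Prime) [CharP F p] (hq : Fintype.card F = p ^ f) (hc : c = 14 ∨ c = 18)
    {B : Subgroup ↥(Lie.chevE7.group F)} {y : B} (hy : ncl c (p ^ f) ∣ orderOf y) (ht : t.Prime) (htp : t ≠ p)
    (htc : ¬ Prim (p ^ f) c t) {A : Subgroup B} (hAn : A.Normal) (hA : ∀ a ∈ A, ∀ b ∈ A, a * b = b * a)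
    (hAt : ∀ a ∈ A, a ^ t = 1)
    (hbig : 133 < ncl c (p ^ f) ∨ ((ncl c (p ^ f)).Prime ∧ ∀ k, 0 < k → t ^ k ∣ Nat.card B → ¬ ncl c (p ^ f) ∣ t ^ k - 1)) :
    ∀ a ∈ A, y ^ (orderOf y / ncl c (p ^ f)) * a = a * y ^ (orderOf y / ncl c (p ^ f)) := by
  have := Fact.mk hp
  have hfin : Finite ↥(Lie.chevE7.group F) := inferInstance
  have hq1 : 1 ≤ p ^ f := Nat.one_le_pow _ _ hp.pos
  have hcl : Cls c := by unfold Cls; omega
  obtain ⟨τ, hτ⟩ := (fth_E7 (F := F)).sub B.subtype B.subtype_injective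
  have ho := orderOf_part hy
  refine cent_all hτ hAn hA ht htp hAt ho (fun h => htc (prim_of_dvd hcl hq1 ht h)) (fun j hj a ha hja => ?_) ?_
  · set z := y ^ (orderOf y / ncl c (p ^ f)) with hz
    have h1 : orderOf (z ^ j) ∣ ncl c (p ^ f) := ho ▸ orderOf_pow_dvd j
    have h2 := prim_of_dvd hcl hq1 hj h1
    have h3 := ((big7 (F := F) (c := c) (by omega) hq h2).subgroup B).cyc (z ^ j) rfl
    let _ := IsCyclic.commGroup (α := ↥(Subgroup.centralizer ({z ^ j} : Set B)))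
    have ha' : a ∈ Subgroup.centralizer ({z ^ j} : Set B) := Subgroup.mem_centralizer_singleton_iff.2 hja.symm
    have hz' : z ∈ Subgroup.centralizer ({z ^ j} : Set B) :=
      Subgroup.mem_centralizer_singleton_iff.2 ((Commute.refl z).pow_right j).eq
    exact congrArg Subtype.val (mul_comm (⟨z, hz'⟩ : ↥(Subgroup.centralizer ({z ^ j} : Set B))) ⟨a, ha'⟩)
  · rw [Fintype.card_fin]; exact hbig

theorem red_E7e (hcyc : CycFixSolv.{0}) (hp : p.Prime) (hf : 1 ≤ f) [CharP F p] (hq : Fintype.card F = p ^ f)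
    (hdT : Nat.card ↥(Lie.chevE7.group F) ∣ OL .E7 (p ^ f))
    {B : Subgroup ↥(Lie.chevE7.group F)} {x y : B} (hx : ncl 14 (p ^ f) ∣ orderOf x) (hy : ncl 18 (p ^ f) ∣ orderOf y)
    {r₀ : ℕ} (hr₀ : Prim (p ^ f) 14 r₀) (hr₀B : r₀ ∣ Nat.card B) :
    Red ↥B (Pr (Fm (p ^ f) [14, 18] (M7 (p ^ f)) E7)) := by
  intro N hN hNr
  by_contra hne
  have hq2 : 2 ≤ p ^ f := hp.two_le.trans (Nat.le_self_pow (by omega) p)
  have hq1 : 1 ≤ p ^ f := by omega
  have hfin : Finite ↥(Lie.chevE7.group F) := inferInstance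
  have := Fact.mk hr₀.prime
  have := Fact.mk hp
  have hpiso : PIso p r₀ ↥(Lie.chevE7.group F) := piso_E7 (F := F) (by rw [hq]; exact hr₀)
  have hPr : Pr (Fm (p ^ f) [14, 18] (M7 (p ^ f)) E7) r₀ := pr_fm.2 ⟨14, by decide, hr₀⟩
  -- `N` is solvable
  have hsolv : Group.IsSolvable N := by
    obtain ⟨x, hx⟩ := exists_prime_orderOf_dvd_card' r₀ hr₀B
    apply hcyc N (MulAut.conjNormal (H := N) x) r₀ hr₀.prime _ (hNr r₀ hPr)
    · refine ⟨(Subgroup.centralizer {x}).comap N.subtype, ?_, fun a ha => ?_⟩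
      · have := ((big7 (F := F) (c := 14) (by omega) hq hr₀).subgroup B).cyc x hx
        let g : ↥((Subgroup.centralizer {x}).comap N.subtype) →* ↥(Subgroup.centralizer {x}) :=
          (N.subtype.comp ((Subgroup.centralizer {x}).comap N.subtype).subtype).codRestrict _ fun y => y.2
        exact isCyclic_of_injective g fun a b hab => by
          have h3 : ((a : N) : B) = ((b : N) : B) :=
            congrArg (fun z : ↥(Subgroup.centralizer {x}) => (z : B)) hab
          exact Subtype.ext (Subtype.ext h3)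
      · rw [Subgroup.mem_comap, Subgroup.mem_centralizer_singleton_iff]
        have h2 := congrArg Subtype.val ha
        rw [MulAut.conjNormal_apply, mul_inv_eq_iff_eq_mul] at h2
        exact h2.symm
    · rw [← map_pow, ← hx, pow_orderOf_eq_one, map_one]
  obtain ⟨t, ht, A, hAn, hAN, hA0, hAc, hAt⟩ := exists_elem' hN hsolv hne
  have hPt : IsPGroup t A := fun a => ⟨1, by rw [pow_one]; exact Subtype.ext (hAt a a.2)⟩
  have := Fact.mk ht
  obtain ⟨k, hk⟩ := IsPGroup.iff_card.1 hPt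
  have hk0 : k ≠ 0 := by
    rintro rfl
    rw [pow_zero, Subgroup.card_eq_one] at hk
    exact hA0 hk
  have htN : t ∣ Nat.card N := (hk ▸ dvd_pow_self t hk0 : t ∣ Nat.card A).trans (Subgroup.card_dvd_of_le hAN)
  have htp : t ≠ p := by
    rintro rfl
    exact hA0 (pcore_of_piso (hpiso.sub B) hr₀B A hAn hPt)
  have hnp : ∀ c ∈ [14, 18], ¬ Prim (p ^ f) c t := fun c hc h => hNr t (pr_fm.2 ⟨c, hc, h⟩) htN
  have hBd : Nat.card B ∣ OL .E7 (p ^ f) := (Subgroup.card_subgroup_dvd_card B).trans hdT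
  -- a nontrivial element
  obtain ⟨a, haA, ha1⟩ : ∃ a ∈ A, a ≠ 1 := by
    by_contra hcon
    push Not at hcon
    exact hA0 ((Subgroup.eq_bot_iff_forall A).2 hcon)
  have hat : orderOf a = t := orderOf_eq_prime (hAt a haA) ha1
  -- the divisibility
  have hdiv : ∀ (c N₀ : ℕ), (c = 14 ∨ c = 18) → Ord ↥(Lie.chevE7.group F) (p ^ f) c N₀ → ∀ w : B, ncl c (p ^ f) ∣ orderOf w →
      (w ^ (orderOf w / ncl c (p ^ f)) * a = a * w ^ (orderOf w / ncl c (p ^ f))) → t ∣ N₀ := by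
    intro c N₀ hc hO w hw hcomm
    have hcl : Cls c := by unfold Cls; omega
    obtain ⟨r, hr⟩ := exists_prim hq2 (show 3 ≤ c by omega) (by omega)
    have h1 : r ∣ orderOf (w ^ (orderOf w / ncl c (p ^ f))) := by
      rw [orderOf_part hw]; exact dvd_ncl hcl hq1 hr
    have h2 := orderOf_part h1
    set z := w ^ (orderOf w / ncl c (p ^ f)) with hz
    have h3 := (hO.sub B) r hr _ h2
    have h4 : a ∈ Subgroup.centralizer ({z ^ (orderOf z / r)} : Set B) :=
      Subgroup.mem_centralizer_singleton_iff.2 ((Commute.pow_left (show Commute z a from hcomm) _).eq.symm)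
    have h5 : orderOf (⟨a, h4⟩ : ↥(Subgroup.centralizer ({z ^ (orderOf z / r)} : Set B))) = t := by
      rw [← Subgroup.orderOf_coe, hat]
    rw [← h5]
    exact (orderOf_dvd_natCard _).trans h3
  have h14 : ∀ a ∈ A, x ^ (orderOf x / ncl 14 (p ^ f)) * a = a * x ^ (orderOf x / ncl 14 (p ^ f)) := by
    refine cent_of_gen hp hq (Or.inl rfl) hx ht htp (hnp 14 (by decide)) hAn hAc hAt ?_
    rcases eq_or_lt_of_le hq2 with h2 | h2
    · right
      have h43 : ncl 14 2 = 43 := by decide +kernel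
      rw [← h2] at hBd ⊢
      rw [h43]
      refine ⟨by norm_num, fun j hj hjB => two_43 ht ?_ ?_ hj (hjB.trans hBd)⟩
      · rintro rfl
        have h3 : p ∣ 2 := h2 ▸ dvd_pow_self p (by omega)
        exact htp ((Nat.prime_dvd_prime_iff_eq hp Nat.prime_two).1 h3).symm
      · rintro rfl
        apply hnp 14 (by decide)
        rw [← h2]
        exact prim_of_dvd (by unfold Cls; omega) (by norm_num) (by norm_num) (by rw [h43])
    · exact Or.inl (ncl14_gt h2)
  have ht1 := hdiv 14 _ (Or.inl rfl) (ord14 hq) x hx (h14 a haA)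
  have hgcd : ∀ P, t ∣ (p ^ f + 1) * P / Nat.gcd 2 (p ^ f - 1) → t ∣ (p ^ f + 1) * P := by
    intro P h
    refine half_dvd ht h ?_
    have h3 : p ^ f + 1 = (p ^ f - 1) + 2 := by omega
    rw [h3]
    exact dvd_add (Nat.gcd_dvd_right _ _) (Nat.gcd_dvd_left _ _)
  have htq : t ∣ p ^ f + 1 := add_of_fourteen hq1 ht (hnp 14 (by decide)) (hgcd _ ht1)
  have h18 : ∀ a ∈ A, y ^ (orderOf y / ncl 18 (p ^ f)) * a = a * y ^ (orderOf y / ncl 18 (p ^ f)) := by
    refine cent_of_gen hp hq (Or.inr rfl) hy ht htp (hnp 18 (by decide)) hAn hAc hAt ?_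
    rcases eq_or_lt_of_le hq2 with h2 | h2
    · right
      have h19 : ncl 18 2 = 19 := by decide +kernel
      rw [← h2] at hBd htq ⊢
      obtain rfl := (Nat.prime_dvd_prime_iff_eq ht Nat.prime_three).1 htq
      rw [h19]
      exact ⟨by norm_num, fun j hj hjB => two_19 hj (hjB.trans hBd)⟩
    · exact Or.inl (ncl18_gt h2)
  -- the elements of prime order
  have hpick : ∀ (c : ℕ), (c = 14 ∨ c = 18) → ∀ w : B, ncl c (p ^ f) ∣ orderOf w →
      (w ^ (orderOf w / ncl c (p ^ f)) * a = a * w ^ (orderOf w / ncl c (p ^ f))) →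
      ∃ r, Prim (p ^ f) c r ∧ ∃ z : B, orderOf z = r ∧ Commute a z := by
    intro c hc w hw hcomm
    have hcl : Cls c := by unfold Cls; omega
    obtain ⟨r, hr⟩ := exists_prim hq2 (show 3 ≤ c by omega) (by omega)
    have h1 : r ∣ orderOf (w ^ (orderOf w / ncl c (p ^ f))) := by
      rw [orderOf_part hw]; exact dvd_ncl hcl hq1 hr
    exact ⟨r, hr, _, orderOf_part h1, (Commute.pow_left (show Commute _ a from hcomm) _).symm⟩
  obtain ⟨r, hr, z, hz, hcz⟩ := hpick 14 (Or.inl rfl) x hx (h14 a haA)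
  obtain ⟨s, hs, w, hw, hcw⟩ := hpick 18 (Or.inr rfl) y hy (h18 a haA)
  refine Cfsg.Agent.H129.E7Common.e7_no_common (F := F) (t := t) (r := r) (s := s) (a := (a : ↥(Lie.chevE7.group F)))
    (x := z) (y := w) ht (by rw [hq]; exact htq) (by rw [hq]; exact hr) (by rw [hq]; exact hs)
    (by rw [Subgroup.orderOf_coe]; exact hat) (by rw [Subgroup.orderOf_coe]; exact hz)
    (by rw [Subgroup.orderOf_coe]; exact hw) ?_ ?_
  · exact congrArg Subtype.val hcz.eq
  · exact congrArg Subtype.val hcw.eq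

/-- **`E₇(q)`, generators of the tori of classes 14, 18.** -/
theorem K_E7e (tb : OrderTable.{0}) (hcyc : CycFixSolv.{0}) (hcf : CF)
    (hp : p.Prime) (hf : 1 ≤ f) (hq : Fintype.card F = p ^ f)
    (B : Subgroup ↥(Lie.chevE7.group F)) (hoff : Off (p ^ f) [14, 18] B) {x y : B}
    (hx : ncl 14 (p ^ f) ∣ orderOf x) (hy : ncl 18 (p ^ f) ∣ orderOf y) : B = ⊤ := by
  have := Fact.mk hp
  have hchar : CharP F p := by
    obtain ⟨p', f', h', hp', hf', hq'⟩ := exists_pf F
    have h1 : p ^ f = p' ^ f' := hq ▸ hq'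
    have h2 : p ∣ p' ^ f' := h1 ▸ dvd_pow_self p (by omega)
    obtain rfl := (Nat.prime_dvd_prime_iff_eq hp hp').1 (hp.dvd_of_dvd_pow h2)
    exact h'
  have hfin : Finite ↥(Lie.chevE7.group F) := inferInstance
  have hT := named_e7 (F := F) tb
  rw [hq] at hT
  have hq2 : 2 ≤ p ^ f := hp.two_le.trans (Nat.le_self_pow (by omega) p)
  have hq1 : 1 ≤ p ^ f := by omega
  have hOL : num (.e7 (p ^ f)) = OL .E7 (p ^ f) := rfl
  have hdT : Nat.card ↥(Lie.chevE7.group F) ∣ OL .E7 (p ^ f) := by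
    rw [← hOL, ← hT.eq]
    exact Dvd.intro_left _ rfl
  have hmem : ∀ c ∈ [14, 18], c = 7 ∨ c = 9 ∨ c = 14 ∨ c = 18 := by decide
  have hcl : ∀ c ∈ [14, 18], Cls c := by
    intro c hc
    have := hmem c hc
    unfold Cls
    omega
  have h7 : ∀ c ∈ [14, 18], 7 ≤ c := by decide
  have hnT : ∀ c ∈ [14, 18], ncl c (p ^ f) ∣ Nat.card ↥(Lie.chevE7.group F) := fun c hc =>
    ncl_dvd_card (hcl c hc) (h7 c hc) hq2 (den_pos hT.cond)
      ((Nat.gcd_le_left _ (by norm_num)).trans (by norm_num)) hT.eq ((ncl_dvd_Ph c _).trans (ph_dvd_num (hmem c hc) hq1))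
  obtain ⟨r₀, hr₀⟩ := exists_prim hq2 (show 3 ≤ 14 by norm_num) (by norm_num)
  have hbig : ∀ c ∈ [14, 18], ∀ r, Prim (p ^ f) c r → Big ↥(Lie.chevE7.group F) r (M7 (p ^ f) c) (E7 c) :=
    fun c hc r hr => big7 (hmem c hc) hq hr
  have hr₀B : r₀ ∣ Nat.card B := (dvd_ncl (by unfold Cls; omega) hq1 hr₀).trans (hx.trans (orderOf_dvd_natCard _))
  have hred := red_E7e hcyc hp hf hq hdT hx hy hr₀ hr₀B
  obtain ⟨s₀, hs₀⟩ := exists_prim hq2 (show 3 ≤ 18 by norm_num) (by norm_num)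
  have hs₀B : s₀ ∣ Nat.card B := (dvd_ncl (by unfold Cls; omega) hq1 hs₀).trans (hy.trans (orderOf_dvd_natCard _))
  have hsep : ∀ c ∈ [14, 18], ¬ Nat.card B ∣ E7 c * M7 (p ^ f) c := by
    have hsmall : ∀ {s c}, 14 < s → s.Prime → s ∣ E7 c → False := by
      intro s c h1 h2 h3
      have h4 : s ≤ 7 := le_seven h2 (n := E7 c) (by unfold E7; split <;> omega) h3
      omega
    intro c hc hcon
    simp only [List.mem_cons, List.not_mem_nil, or_false] at hc
    rcases hc with rfl | rfl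
    · rcases hs₀.prime.dvd_mul.1 (hs₀B.trans hcon) with h1 | h1
      · exact hsmall (by have := lt_of_prim hq2 (by norm_num) hs₀; omega) hs₀.prime h1
      · have h2 := h1.trans (m7_dvd (c := 14) (by omega) hq1)
        rw [hs₀.dvd_iff] at h2
        omega
    · rcases hr₀.prime.dvd_mul.1 (hr₀B.trans hcon) with h1 | h1
      · exact hsmall (by have := lt_of_prim hq2 (by norm_num) hr₀; omega) hr₀.prime h1
      · have h2 := h1.trans (m7_dvd (c := 18) (by omega) hq1)
        rw [hr₀.dvd_iff] at h2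
        omega
  have hd4 : ncl 14 (p ^ f) + 4 ≤ ncl 18 (p ^ f) ∨ ncl 18 (p ^ f) + 4 ≤ ncl 14 (p ^ f) := dist_14_18 hq2
  obtain ⟨S, hSn, hSs, hSna, hnS, hidx, hbS, g, hg, hch⟩ := coreX tb hcyc hcf
    (ElimX.of_tbl tbl_E7e (fam := [14, 18]) (by decide) hp hf) (e := 14) (e' := 18) (by decide) (by decide)
    hd4 hcl h7 hp hf (F := F) fth_E7 hdT hbig hnT (c₀ := 14) (by decide) hr₀ hsep hoff hred
  have hdS : Nat.card S ∣ num (.e7 (p ^ f)) := IsNamed.card_dvd hT S
  have hMp : ¬ p ∣ M7 (p ^ f) 14 := by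
    intro h
    have h1 := h.trans (m7_dvd (c := 14) (by omega) hq1)
    have h2 : p ∣ (p ^ f) ^ 14 := dvd_pow (dvd_pow_self p (by omega)) (by norm_num)
    have h3 : p ∣ (p ^ f) ^ 14 - ((p ^ f) ^ 14 - 1) := Nat.dvd_sub h2 h1
    have h4 : 1 ≤ (p ^ f) ^ 14 := Nat.one_le_pow _ _ (by omega)
    rw [Nat.sub_sub_self h4] at h3
    exact hp.one_lt.ne' (Nat.dvd_one.1 h3)
  rcases charp_e7_1418 hp hf hg.cond hch hg.eq hdS
    (fun s hs _ => (hbS 14 (by decide) s hs).2.2) (fun s hs _ => (hbS 18 (by decide) s hs).2.2) with rfl | rfl | rfl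
  · exact (kill_psu9 hp hf (Or.inl rfl) hg hr₀ (hbS 14 (by decide) r₀ hr₀).1 hMp).elim
  · exact (kill_psu9 hp hf (Or.inr rfl) hg hr₀ (hbS 14 (by decide) r₀ hr₀).1 hMp).elim
  · exact eq_top_of_name hT hg

end

end Cfsg.Agent.H325.Cov
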