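import Cfsg.Agent.H325.Cov.CoreR

/-!
# Tables for `E₇(q)`: the pairs {9, 18}, {7, 14}, {14, 18} (helper325)
-/

set_option autoImplicit false
set_option exponentiation.threshold 700

namespace Cfsg.Agent.H325.Cov

open Cfsg Cfsg.Agent.OrdDiv Cfsg.Agent.H436 Cfsg.Agent.H902 Cfsg.Agent.H290.ElReg Cfsg.Agent.H290.ElTab
  Cfsg.Agent.H290.ElCross Cfsg.Agent.H56.Exc Cfsg.Agent.H325.Loc Cfsg.Agent.H563.KG

theorem svR_E7c : svR 133 .E7 [18, 9] = true := by decide +kernel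
theorem svS_E7c : svS .E7 [18, 9] = true := by decide +kernel
theorem svR_E7e : svR 133 .E7 [18, 14] = true := svR_E7
theorem svR_E7d : svR 133 .E7 [7, 14] = true := by decide +kernel
theorem svS_E7d : svS .E7 [7, 14] = true := by decide +kernel
theorem bndS_7 : bndS 7 = true := by decide +kernel

/-- the bound, class 7 -/
def bndR7 : Bool := (reg 133).all fun x =>
  Nat.blt (OL x.1 (x.2.1 ^ x.2.2)) (2 ^ 600) &&
    (Nat.ble (De (pd (NS x.1 x.2.1 x.2.2)) (OL x.1 (x.2.1 ^ x.2.2)) 7) 2701 ||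
      (x.2.1 == 2 && Nat.ble (De (pd (NS x.1 x.2.1 x.2.2)) (OL x.1 (x.2.1 ^ x.2.2)) 7) 416179))

theorem bndR7_true : bndR7 = true := by decide +kernel

theorem le_seven7 {q : ℕ} (h : ncl 7 q ≤ 2701) : q ≤ 7 := by
  by_contra hq
  have h1 : 8 ^ 6 ≤ q ^ 6 := Nat.pow_le_pow_left (by omega) 6
  have h2 := Ph_le 7 q (by decide)
  have h3 : cc 7 = 7 := rfl
  have h4 : Ph 7 q = q ^ 6 + q ^ 5 + q ^ 4 + q ^ 3 + q ^ 2 + q + 1 := rfl
  rw [h3] at h2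
  norm_num at h1
  omega

theorem le_eight7 {q : ℕ} (h : ncl 7 q ≤ 416179) : q ≤ 8 := by
  by_contra hq
  rcases Nat.lt_or_ge q 12 with h5 | h5
  · have h6 : q = 9 ∨ q = 10 ∨ q = 11 := by omega
    rcases h6 with rfl | rfl | rfl
    · exact absurd h (by decide +kernel)
    · exact absurd h (by decide +kernel)
    · exact absurd h (by decide +kernel)
  · have h1 : 12 ^ 6 ≤ q ^ 6 := Nat.pow_le_pow_left h5 6
    have h1' : 12 ^ 5 ≤ q ^ 5 := Nat.pow_le_pow_left h5 5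
    have h2 := Ph_le 7 q (by decide)
    have h3 : cc 7 = 7 := rfl
    have h4 : Ph 7 q = q ^ 6 + q ^ 5 + q ^ 4 + q ^ 3 + q ^ 2 + q + 1 := rfl
    rw [h3] at h2
    norm_num at h1 h1'
    omega

/-- **Cross characteristic, the classes 7, 14 of `E₇(q)`.** -/
theorem no_cross7 {p f : ℕ} {X : Art.Sh} {l a N : ℕ}
    (hR : Art.Real X l a N) (hlb : lb X (l ^ a) ≤ 133) (hp : p.Prime) (hf : 1 ≤ f) (hpl : p ≠ l)
    (hcls : ∀ e ∈ [7, 14], ncl e (p ^ f) ∣ N) (hd : N ∣ OL .E7 (p ^ f)) : False := by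
  obtain ⟨hl, ha, hokX, heq⟩ := hR
  have hq : 2 ≤ p ^ f := hp.two_le.trans (Nat.le_self_pow (by omega) p)
  have hreg := mem_reg (by norm_num) hl ha hokX hlb
  have hs' : smooth (NA X l a) = true :=
    List.all_eq_true.1 smooth_reg (X, (l, a)) (mem_reg le_rfl hl ha hokX (hlb.trans (by norm_num)))
  have hsS : smooth (NS X l a) = true := by
    have h1 : NS X l a ∣ NA X l a := Dvd.intro_left _ rfl
    have h2 : NA X l a ∣ prs.prod ^ 100 := Nat.dvd_of_mod_eq_zero (by simpa [smooth] using hs')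
    simpa [smooth] using Nat.mod_eq_zero_of_dvd (h1.trans h2)
  have hM : OL X (l ^ a) = Art.dd X (l ^ a) * N := by unfold OL; rw [numL_eq]; exact heq.symm
  have hNM : N ∣ OL X (l ^ a) := Dvd.intro_left _ hM.symm
  have hNS : ∀ r, r.Prime → r ∣ N → r ∣ NS X l a := by
    intro r hr h
    unfold NS
    have h1 : r ∣ (l ^ a) ^ Art.NN X * numL X (l ^ a) := h.trans hNM
    rcases hr.dvd_mul.1 h1 with h2 | h2
    · exact (hr.dvd_of_dvd_pow (hr.dvd_of_dvd_pow h2)).mul_right _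
    · exact h2.mul_left _
  have hb' := List.all_eq_true.1 bndR7_true (X, (l, a)) hreg
  simp only [Bool.and_eq_true, Bool.or_eq_true, Nat.ble_eq, Nat.blt_eq, beq_iff_eq] at hb'
  have hM0 : OL X (l ^ a) ≠ 0 := by
    intro h0
    have h3 : l ^ a ≠ 0 := pow_ne_zero _ hl.ne_zero
    have h4 : NS X l a ≠ 0 := by
      intro h5
      have h6 : NS X l a ∣ prs.prod ^ 100 := Nat.dvd_of_mod_eq_zero (by simpa [smooth] using hsS)
      rw [h5] at h6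
      have h7 := Nat.eq_zero_of_zero_dvd h6
      have h8 : prs.prod ≠ 0 := by decide +kernel
      exact pow_ne_zero 100 h8 h7
    apply h4
    unfold OL at h0
    rcases Nat.mul_eq_zero.1 h0 with h5 | h5
    · exact absurd h5 (pow_ne_zero _ h3)
    · unfold NS
      rw [h5, mul_zero]
  have h1 : ncl 7 (p ^ f) ∣ De (pd (NS X l a)) (OL X (l ^ a)) 7 := by
    refine dvd_De hM0 hb'.1 ((hcls 7 (by decide)).trans hNM) fun r hr hrd => ?_
    have hprim := prim_of_dvd c7 (by omega) hr hrd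
    exact ⟨mem_pd hsS hr (hNS r hr (hrd.trans (hcls 7 (by decide)))), mod_of_prim hq (by norm_num) hprim⟩
  have h3 : De (pd (NS X l a)) (OL X (l ^ a)) 7 ≠ 0 := by
    unfold De
    intro h4
    rw [List.prod_eq_zero_iff, List.mem_map] at h4
    obtain ⟨r, -, h5⟩ := h4
    exact hM0 (Nat.eq_zero_of_gcd_eq_zero_left h5)
  have h4 := Nat.le_of_dvd (Nat.pos_of_ne_zero h3) h1
  have h5 : p ^ f ≤ 7 := by
    rcases hb'.2 with h6 | ⟨h6, h7⟩
    · exact le_seven7 (h4.trans h6)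
    · have h8 := le_eight7 (h4.trans h7)
      rcases Nat.lt_or_ge (p ^ f) 8 with h9 | h9
      · omega
      · exfalso
        have h10 : p ^ f = 2 ^ 3 := by omega
        have h11 : p ∣ 2 ^ 3 := h10 ▸ dvd_pow_self p (by omega)
        have h12 := (Nat.prime_dvd_prime_iff_eq hp Nat.prime_two).1 (hp.dvd_of_dvd_pow h11)
        exact hpl (h12.trans h6.symm)
  have h6 := mem_sm hp hf h5
  have h7 := List.all_eq_true.1 (List.all_eq_true.1 svR_E7d (X, (l, a)) hreg) _ h6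
  rw [tq_of (fun e he => (hcls e he).trans hNM) hM hd] at h7
  simp at h7
  exact hpl h7

theorem no_spor7 {p f : ℕ} {x : Grp × ℕ} (hx : x ∈ Cfsg.Agent.OrdDiv.spor) (hp : p.Prime) (hf : 1 ≤ f)
    (hcls : ∀ e ∈ [7, 14], ncl e (p ^ f) ∣ x.2) (hd : x.2 ∣ OL .E7 (p ^ f)) : False :=
  no_spor bndS_7 svS_E7d c7 (by decide) (fun _ => le_seven7) hx hp hf hcls hd

theorem elimX_714 {p f : ℕ} (hp : p.Prime) (hf : 1 ≤ f) : ElimX 133 .E7 [7, 14] p f where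
  hn := by norm_num
  cross hR hlb hpl hcls hd := no_cross7 hR hlb hp hf hpl hcls hd
  spor hx hcls hd := no_spor7 hx hp hf hcls hd

theorem tbl_E7c : Tbl 133 .E7 [18, 9] 18 where
  hn := by norm_num
  hb := bndR_133_18
  hs := svR_E7c
  hbS := bndS_18
  hsS := svS_E7c
  he₀ := c18
  hmem := by decide
  hle := fun _ h => (le_four18 h).trans (by norm_num)

theorem tbl_E7e : Tbl 133 .E7 [18, 14] 18 where
  hn := by norm_num
  hb := bndR_133_18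
  hs := svR_E7
  hbS := bndS_18
  hsS := svS_E7
  he₀ := c18
  hmem := by decide
  hle := fun _ h => (le_four18 h).trans (by norm_num)

/-! ### distances -/

theorem dist_7_14 {q : ℕ} (hq : 2 ≤ q) : ncl 7 q + 4 ≤ ncl 14 q ∨ ncl 14 q + 4 ≤ ncl 7 q := by
  have e1 : cc 7 = 7 := rfl
  have e2 : cc 14 = 7 := rfl
  have p1 : Ph 7 q = q ^ 6 + q ^ 5 + q ^ 4 + q ^ 3 + q ^ 2 + q + 1 := rfl
  have p2 : Ph 14 q = (q ^ 6 + q ^ 4 + q ^ 2 + 1) - (q ^ 5 + q ^ 3 + q) := rfl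
  rcases eq_or_lt_of_le hq with rfl | hq3
  · decide +kernel
  obtain ⟨k, rfl⟩ := Nat.exists_eq_add_of_le' (show 3 ≤ q from hq3)
  have a0 : (k + 3) ^ 5 + (k + 3) ^ 3 + (k + 3) ≤ (k + 3) ^ 6 + (k + 3) ^ 4 + (k + 3) ^ 2 + 1 := by ring_nf; omega
  have a1 : 28 ≤ 2 * ((k + 3) ^ 5 + (k + 3) ^ 3 + (k + 3)) := by ring_nf; omega
  have a3 : ((k + 3) ^ 6 + (k + 3) ^ 5 + (k + 3) ^ 4 + (k + 3) ^ 3 + (k + 3) ^ 2 + (k + 3) + 1) +
      7 * ((k + 3) ^ 5 + (k + 3) ^ 3 + (k + 3)) + 28 ≤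
      7 * ((k + 3) ^ 6 + (k + 3) ^ 4 + (k + 3) ^ 2 + 1) := by ring_nf; omega
  rcases ncl_or (e := 7) (q := k + 3) (by norm_num [cc]) with h1 | h1 <;>
    rcases ncl_or (e := 14) (q := k + 3) (by norm_num [cc]) with h2 | h2 <;>
    rw [p1] at h1 <;> rw [p2] at h2 <;> (try rw [e1] at h1) <;> (try rw [e2] at h2) <;> omega

theorem dist_9_18 {q : ℕ} (hq : 2 ≤ q) : ncl 9 q + 4 ≤ ncl 18 q ∨ ncl 18 q + 4 ≤ ncl 9 q := by
  have e1 : cc 9 = 3 := rfl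
  have e2 : cc 18 = 3 := rfl
  have p1 : Ph 9 q = q ^ 6 + q ^ 3 + 1 := rfl
  have p2 : Ph 18 q = (q ^ 6 + 1) - q ^ 3 := rfl
  rcases eq_or_lt_of_le hq with rfl | hq3
  · decide +kernel
  obtain ⟨k, rfl⟩ := Nat.exists_eq_add_of_le' (show 3 ≤ q from hq3)
  have a0 : (k + 3) ^ 3 ≤ (k + 3) ^ 6 := by ring_nf; omega
  have a1 : 12 ≤ (k + 3) ^ 3 := by ring_nf; omega
  have a3 : ((k + 3) ^ 6 + (k + 3) ^ 3 + 1) + 3 * (k + 3) ^ 3 + 12 ≤ 3 * ((k + 3) ^ 6 + 1) := by ring_nf; omega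
  rcases ncl_or (e := 9) (q := k + 3) (by norm_num [cc]) with h1 | h1 <;>
    rcases ncl_or (e := 18) (q := k + 3) (by norm_num [cc]) with h2 | h2 <;>
    rw [p1] at h1 <;> rw [p2] at h2 <;> (try rw [e1] at h1) <;> (try rw [e2] at h2) <;> omega

theorem dist_14_18 {q : ℕ} (hq : 2 ≤ q) : ncl 14 q + 4 ≤ ncl 18 q ∨ ncl 18 q + 4 ≤ ncl 14 q := by
  have e1 : cc 14 = 7 := rfl
  have e2 : cc 18 = 3 := rfl
  have p1 : Ph 14 q = (q ^ 6 + q ^ 4 + q ^ 2 + 1) - (q ^ 5 + q ^ 3 + q) := rfl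
  have p2 : Ph 18 q = (q ^ 6 + 1) - q ^ 3 := rfl
  rcases eq_or_lt_of_le hq with rfl | hq3
  · decide +kernel
  obtain ⟨k, rfl⟩ := Nat.exists_eq_add_of_le' (show 3 ≤ q from hq3)
  have a0 : (k + 3) ^ 5 + (k + 3) ^ 3 + (k + 3) ≤ (k + 3) ^ 6 + (k + 3) ^ 4 + (k + 3) ^ 2 + 1 := by ring_nf; omega
  have a1 : (k + 3) ^ 3 ≤ (k + 3) ^ 6 := by ring_nf; omega
  have a2 : (k + 3) ^ 6 + (k + 3) ^ 4 + (k + 3) ^ 2 + 1 + (k + 3) ^ 3 + 4 ≤ ((k + 3) ^ 6 + 1) +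
      ((k + 3) ^ 5 + (k + 3) ^ 3 + (k + 3)) := by ring_nf; omega
  have a3 : 3 * ((k + 3) ^ 6 + (k + 3) ^ 4 + (k + 3) ^ 2 + 1) + 84 + 7 * (k + 3) ^ 3 ≤
      7 * ((k + 3) ^ 6 + 1) + 3 * ((k + 3) ^ 5 + (k + 3) ^ 3 + (k + 3)) := by ring_nf; omega
  have a4 : (k + 3) ^ 6 + 1 + 3 * ((k + 3) ^ 5 + (k + 3) ^ 3 + (k + 3)) + 12 ≤
      3 * ((k + 3) ^ 6 + (k + 3) ^ 4 + (k + 3) ^ 2 + 1) + (k + 3) ^ 3 := by ring_nf; omega
  rcases ncl_or (e := 14) (q := k + 3) (by norm_num [cc]) with h1 | h1 <;>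
    rcases ncl_or (e := 18) (q := k + 3) (by norm_num [cc]) with h2 | h2 <;>
    rw [p1] at h1 <;> rw [p2] at h2 <;> (try rw [e1] at h1) <;> (try rw [e2] at h2) <;> omega

end Cfsg.Agent.H325.Cov
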